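import Cfsg.Agent.H920.Sz12.CoreP

/-!
# Overgroup kills in `Sp₁₂(3)` with `2.Suz` (helper920)

* `exists_ratio` : `P ≤ spGL` a core, `g⁻¹ P g ≤ WF`: the form transported by `g` is proportional to the standard form;
* `kill` : `H ≤ P ⊔ scalars`, `g⁻¹ P g ≤ WF`, `|Soc P| ≠ |Suz|` ⟹ `H` is not maximal;
* `kill_two` : the same, if moreover some element of multiplier `-1` normalises `P` and `|Out (Soc P)| = 2`;
* `kill_conj` : `P = g (2.G₂(4)) g⁻¹`.
-/

set_option autoImplicit false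
set_option linter.style.haveILetI false

namespace Cfsg.Agent.H920.Sz12

open Matrix Cfsg Cfsg.Geo
open Cfsg.Agent.H915.LD (Core Soc toSoc toSoc_surjective)
open Cfsg.Agent.H914 Cfsg.Agent.H914.S6

universe u

variable {F : Type u} [Field F] (f : ZMod 3 →+* F) {H P : Subgroup (GL I12 F)}

/-- the form transported by `g` -/
def tform (g : GL I12 F) (u v : I12 → F) : F :=
  sympForm 6 F (((g⁻¹ : GL I12 F) : Matrix I12 I12 F) *ᵥ u) (((g⁻¹ : GL I12 F) : Matrix I12 I12 F) *ᵥ v)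

theorem tform_bil (g : GL I12 F) : IsBilinearForm (tform g) := by
  have hb := (H924.isSymplecticForm_sympForm (m := 6) (F := F)).bilinear
  refine ⟨fun x y v => ?_, fun c x v => ?_, fun v x y => ?_, fun c v x => ?_⟩
  · unfold tform; rw [mulVec_add, hb.add_left]
  · unfold tform; rw [mulVec_smul, hb.smul_left]
  · unfold tform; rw [mulVec_add, hb.add_right]
  · unfold tform; rw [mulVec_smul, hb.smul_right]

theorem sympForm_ne : ∃ u v : I12 → F, sympForm 6 F u v ≠ 0 := by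
  have hn := (H924.isSymplecticForm_sympForm (m := 6) (F := F)).nondegenerate
  have h1 : (Pi.single (Sum.inl 0) 1 : I12 → F) ≠ 0 := by
    intro h
    have := congrFun h (Sum.inl 0)
    simp at this
  obtain ⟨x, hx⟩ := (hn _ h1).2
  exact ⟨_, x, hx⟩

theorem tform_ne (g : GL I12 F) : ∃ u v, tform g u v ≠ 0 := by
  obtain ⟨u, v, h⟩ := sympForm_ne (F := F)
  refine ⟨(g : Matrix I12 I12 F) *ᵥ u, (g : Matrix I12 I12 F) *ᵥ v, ?_⟩
  unfold tform
  rwa [mulVec_mulVec, mulVec_mulVec, ← Units.val_mul, inv_mul_cancel, Units.val_one, one_mulVec, one_mulVec]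

/-- the conjugate of the model -/
noncomputable def Wg (g : GL I12 F) : Subgroup (GL I12 F) := (WF f).map (MulAut.conj g).toMonoidHom

theorem mem_Wg {g x : GL I12 F} : x ∈ Wg f g ↔ g⁻¹ * x * g ∈ WF f := by
  constructor
  · rintro ⟨y, hy, rfl⟩
    show g⁻¹ * (g * y * g⁻¹) * g ∈ WF f
    rwa [show g⁻¹ * (g * y * g⁻¹) * g = y by group]
  · intro h
    refine ⟨_, h, ?_⟩
    show g * (g⁻¹ * x * g) * g⁻¹ = x
    group

theorem Wg_fixes (g : GL I12 F) : FixesForm (matrixSet (Wg f g)) (tform g) := by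
  rintro _ ⟨x, hx, rfl⟩ u v
  have h1 := WF_le f ((mem_Wg f).1 hx)
  rw [H931.mem_spGL_iff] at h1
  have h2 := h1 (((g⁻¹ : GL I12 F) : Matrix I12 I12 F) *ᵥ u) (((g⁻¹ : GL I12 F) : Matrix I12 I12 F) *ᵥ v)
  unfold tform
  rw [← h2, mulVec_mulVec, mulVec_mulVec, mulVec_mulVec, mulVec_mulVec, ← Units.val_mul, ← Units.val_mul,
    show g⁻¹ * x * g * g⁻¹ = g⁻¹ * x by group]

theorem exists_ratio (hP : ActsAbsolutelyIrreducibly (matrixSet P)) (hPs : P ≤ spGL 6 F) {g : GL I12 F}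
    (hg : ∀ x ∈ P, g⁻¹ * x * g ∈ WF f) : ∃ c : F, c ≠ 0 ∧ ∀ u v, tform g u v = c * sympForm 6 F u v := by
  have hs := H924.isSymplecticForm_sympForm (m := 6) (F := F)
  obtain ⟨c, hc⟩ := sesq_unique hP (IsSesq.of_bilinear hs.bilinear) hs.nondegenerate (fixes_of_le hPs)
    (IsSesq.of_bilinear (tform_bil g)) (fun s hs => by
      obtain ⟨x, hx, rfl⟩ := hs
      exact Wg_fixes f g _ ⟨x, (mem_Wg f).2 (hg x hx), rfl⟩)
  refine ⟨c, ?_, hc⟩
  rintro rfl
  obtain ⟨u, v, h⟩ := tform_ne g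
  exact h (by rw [hc, zero_mul])

theorem Wg_le (hP : ActsAbsolutelyIrreducibly (matrixSet P)) (hPs : P ≤ spGL 6 F) {g : GL I12 F}
    (hg : ∀ x ∈ P, g⁻¹ * x * g ∈ WF f) : Wg f g ≤ spGL 6 F :=
  le_spGL_of_fixes hP hPs (fun x hx => (mem_Wg f).2 (hg x hx)) (tform_bil g) (tform_ne g) (Wg_fixes f g)

section three

variable [Finite F] (hF : Nat.card F = 3)

include hF in
theorem surj : Function.Surjective f := by
  haveI := Fintype.ofFinite F
  have hb : Function.Bijective f := by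
    rw [Fintype.bijective_iff_injective_and_card]
    exact ⟨f.injective, by rw [ZMod.card, ← Nat.card_eq_fintype_card, hF]⟩
  exact hb.2

include hF in
theorem scalars_eq_map : scalars I12 F = (scalars I12 (ZMod 3)).map (Matrix.GeneralLinearGroup.map f) := by
  ext x
  constructor
  · rintro ⟨c, rfl⟩
    obtain ⟨a, ha⟩ := surj f hF (c : F)
    have ha0 : a ≠ 0 := by
      rintro rfl
      rw [map_zero] at ha
      exact c.ne_zero ha.symm
    refine ⟨Units.map (Matrix.scalar I12 : ZMod 3 →+* Matrix I12 I12 (ZMod 3)).toMonoidHom (Units.mk0 a ha0), ⟨_, rfl⟩, ?_⟩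
    apply Units.ext
    refine Matrix.ext fun i j => ?_
    show f ((Matrix.scalar I12 a) i j) = (Matrix.scalar I12 (c : F)) i j
    rw [Matrix.scalar_apply, Matrix.diagonal_apply, Matrix.scalar_apply, Matrix.diagonal_apply]
    split_ifs
    · exact ha
    · rw [map_zero]
  · rintro ⟨y, hy, rfl⟩
    haveI : Nonempty I12 := ⟨Sum.inl 0⟩
    exact (map_mem_scalars f).2 hy

include hF in
theorem scalars_le_WF : scalars I12 F ≤ WF f := by
  rw [scalars_eq_map f hF]
  exact Subgroup.map_mono scalars_le_W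

include f hF in
theorem card_scalars_F : Nat.card (scalars I12 F) = 2 := by
  rw [scalars_eq_map f hF, ← card_scalars]
  exact (Nat.card_congr ((scalars I12 (ZMod 3)).equivMapOfInjective _ (map_injective f)).toEquiv).symm

include f hF in
theorem scalars_le_spGL : scalars I12 F ≤ spGL 6 F := (scalars_le_WF f hF).trans (WF_le f)

theorem comm_of_mem_scalars {z : GL I12 F} (hz : z ∈ scalars I12 F) (x : GL I12 F) : z * x = x * z := by
  obtain ⟨c, rfl⟩ := hz
  apply Units.ext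
  show Matrix.scalar I12 (c : F) * (x : Matrix I12 I12 F) = (x : Matrix I12 I12 F) * Matrix.scalar I12 (c : F)
  exact Matrix.scalar_commute _ (fun _ => Commute.all _ _) _

include hF in
/-- **Overgroup kill.** -/
theorem kill (hH : IsMaximalIn (spGL 6 F) H) (hc : IsResidualCore H P) {g : GL I12 F}
    (hg : ∀ x ∈ P, g⁻¹ * x * g ∈ WF f) (hHP : H ≤ P ⊔ scalars I12 F) (hcard : Nat.card (Soc P) ≠ 448345497600) :
    False := by
  have hPs : P ≤ spGL 6 F := hc.le.trans hH.1.le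
  have h1 := Wg_le f hc.absIrred hPs hg
  have hPW : P ≤ Wg f g := fun x hx => (mem_Wg f).2 (hg x hx)
  have hZW : scalars I12 F ≤ Wg f g := by
    intro z hz
    rw [mem_Wg, mul_assoc, comm_of_mem_scalars hz, inv_mul_cancel_left]
    exact scalars_le_WF f hF hz
  have hcW : Nat.card (Wg f g) = 896690995200 := by
    rw [← card_WF f]
    exact (Nat.card_congr ((WF f).equivMapOfInjective _ (MulAut.conj g).injective).toEquiv).symm
  rcases hH.2 (Wg f g) (hHP.trans (sup_le hPW hZW)) h1 with h2 | h2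
  · -- `H = Wg`
    have h3 : P ⊔ scalars I12 F = Wg f g := le_antisymm (sup_le hPW hZW) (h2 ▸ hHP)
    have h4 : (scalars I12 F).relIndex (P ⊔ scalars I12 F) = (scalars I12 F).relIndex P :=
      Subgroup.relIndex_sup_right P (scalars I12 F)
    have h5 : (scalars I12 F).relIndex P = Nat.card (Soc P) := rfl
    have h6 := Subgroup.relIndex_mul_relIndex ⊥ (scalars I12 F) (P ⊔ scalars I12 F) bot_le le_sup_right
    rw [Subgroup.relIndex_bot_left, Subgroup.relIndex_bot_left, h4, h5, card_scalars_F f hF, h3, hcW] at h6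
    omega
  · rw [h2, H955.card_spGL, hF] at hcW
    norm_num [Finset.prod_range_succ] at hcW

include f hF in
/-- elements of `P ⊔ scalars` preserve the form -/
theorem form_of_mem_sup (hPs : P ≤ spGL 6 F) {x : GL I12 F} (hx : x ∈ P ⊔ scalars I12 F) (u v : I12 → F) :
    sympForm 6 F ((x : Matrix I12 I12 F) *ᵥ u) ((x : Matrix I12 I12 F) *ᵥ v) = sympForm 6 F u v :=
  H931.mem_spGL_iff.1 (sup_le hPs (scalars_le_spGL f hF) hx) u v

include f hF in
theorem two_ne : (2 : F) ≠ 0 := by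
  intro h
  have h1 : f 2 = f 0 := by rw [map_zero, ← h]; exact map_ofNat f 2
  exact absurd (f.injective h1) (by decide)

include f hF in
/-- an element of multiplier `-1` is not in `P ⊔ scalars` -/
theorem not_mem_sup (hPs : P ≤ spGL 6 F) {x : GL I12 F}
    (h : ∀ u v, sympForm 6 F ((x : Matrix I12 I12 F) *ᵥ u) ((x : Matrix I12 I12 F) *ᵥ v) = -sympForm 6 F u v) :
    x ∉ P ⊔ scalars I12 F := by
  intro hx
  obtain ⟨u, v, huv⟩ := sympForm_ne (F := F)
  have h1 := form_of_mem_sup f hF hPs hx u v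
  rw [h u v] at h1
  have h2 : (2 : F) * sympForm 6 F u v = 0 := by linear_combination -h1
  exact (mul_ne_zero (two_ne f hF) huv) h2

include hF in
/-- **Overgroup kill**, if an element of multiplier `-1` normalises `P` and `N(P) / (P ⊔ scalars)` has at most two
elements. -/
theorem kill_pair (hH : IsMaximalIn (spGL 6 F) H) (hc : IsResidualCore H P) {g n : GL I12 F}
    (hg : ∀ x ∈ P, g⁻¹ * x * g ∈ WF f)
    (hout : ∀ a b : GL I12 F, (∀ x ∈ P, a * x * a⁻¹ ∈ P) → (∀ x ∈ P, b * x * b⁻¹ ∈ P) → a ∉ P ⊔ scalars I12 F →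
      b ∉ P ⊔ scalars I12 F → a * b ∈ P ⊔ scalars I12 F)
    (hn : ∀ x ∈ P, n * x * n⁻¹ ∈ P)
    (hn' : ∀ u v, sympForm 6 F ((n : Matrix I12 I12 F) *ᵥ u) ((n : Matrix I12 I12 F) *ᵥ v) = -sympForm 6 F u v)
    (hcard : Nat.card (Soc P) ≠ 448345497600) : False := by
  have hPs : P ≤ spGL 6 F := hc.le.trans hH.1.le
  refine kill f hF hH hc hg (fun h hh => ?_) hcard
  by_contra hcon
  have h1 := hout h n (hc.normal h hh) hn hcon (not_mem_sup f hF hPs hn')
  refine not_mem_sup f hF hPs (x := h * n) (fun u v => ?_) h1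
  have h2 := H931.mem_spGL_iff.1 (hH.1.le hh)
  rw [Units.val_mul, ← mulVec_mulVec, ← mulVec_mulVec, h2, hn']

include hF in
/-- the same if `Soc P` has two outer classes -/
theorem kill_two (hH : IsMaximalIn (spGL 6 F) H) (hc : IsResidualCore H P) {g n : GL I12 F}
    (hg : ∀ x ∈ P, g⁻¹ * x * g ∈ WF f) (hout : Nat.card (Out (Soc P)) = 2) (hn : ∀ x ∈ P, n * x * n⁻¹ ∈ P)
    (hn' : ∀ u v, sympForm 6 F ((n : Matrix I12 I12 F) *ᵥ u) ((n : Matrix I12 I12 F) *ᵥ v) = -sympForm 6 F u v)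
    (hcard : Nat.card (Soc P) ≠ 448345497600) : False :=
  kill_pair f hF hH hc hg (fun _ _ ha hb ha' hb' => mul_mem_of_out (H915.LD.core_of_residual hc) hout ha hb ha' hb')
    hn hn' hcard

include hF in
/-- the kill for conjugates of `2.G₂(4)` -/
theorem kill_conj (hH : IsMaximalIn (spGL 6 F) H) (hc : IsResidualCore H P) {g : GL I12 F}
    (hP : P = (PF f).map (MulAut.conj g).toMonoidHom) (hout : Nat.card (Out (Soc P)) = 2)
    (hcard : Nat.card (Soc P) ≠ 448345497600) : False := by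
  have hPs : P ≤ spGL 6 F := hc.le.trans hH.1.le
  have hg' : ∀ x ∈ P, g⁻¹ * x * g ∈ PF f := by
    intro x hx
    rw [hP] at hx
    obtain ⟨y, hy, rfl⟩ := hx
    show g⁻¹ * (g * y * g⁻¹) * g ∈ PF f
    rwa [show g⁻¹ * (g * y * g⁻¹) * g = y by group]
  have hg : ∀ x ∈ P, g⁻¹ * x * g ∈ WF f := fun x hx => PF_le f (hg' x hx)
  obtain ⟨c, hc0, hcf⟩ := exists_ratio f hc.absIrred hPs hg
  refine kill_two f hF hH hc hg (n := g * GF f 7 * g⁻¹) hout ?_ ?_ hcard
  · intro x hx
    rw [hP]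
    refine ⟨_, norm_PF f (hg' x hx), ?_⟩
    show g * (GF f 7 * (g⁻¹ * x * g) * (GF f 7)⁻¹) * g⁻¹ = g * GF f 7 * g⁻¹ * x * (g * GF f 7 * g⁻¹)⁻¹
    group
  · intro u v
    apply mul_left_cancel₀ hc0
    rw [← hcf, mul_neg, ← hcf]
    unfold tform
    rw [mulVec_mulVec, mulVec_mulVec, ← Units.val_mul, show g⁻¹ * (g * GF f 7 * g⁻¹) = GF f 7 * g⁻¹ by group,
      Units.val_mul, ← mulVec_mulVec, ← mulVec_mulVec, GF_seven]

end three

end Cfsg.Agent.H920.Sz12
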