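import Cfsg.Agent.H920.Sz12.Data
import Cfsg.Agent.H919.AschBurnside

/-!
# Absolute irreducibility of the explicit `⟨a, …, f⟩` (helper920)
-/

set_option autoImplicit false
set_option Elab.async false

namespace Cfsg.Agent.H920.Sz12

open Matrix Cfsg Cfsg.Geo

/-- `f + c b + b f d` -/
def rR : List ℕ :=
  [0x010000000101020201010000,
   0x010001010002000101020202,
   0x020000010202010102000202,
   0x010101020002020102020202,
   0x000201010101010200010101,
   0x000102020100020202020101,
   0x010201000200010102000000,
   0x000201010202020102000101,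
   0x010202010000020002020201,
   0x010001010000020100010000,
   0x010000010002020000000101,
   0x020201020200010100000202]

/-- rows `v y` -/
def vR : List ℕ :=
  [0x000102000200010200020101,
   0x020100000000000200000102,
   0x000001020002000102000201,
   0x020101010001000102000101,
   0x000202000102020202010100,
   0x020000000000000000000100,
   0x020202010201010000010100,
   0x020102010200010000010100,
   0x000002010001010201020102,
   0x020201000100000102020102,
   0x020000010102010000010202,
   0x000201010002010001010102]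

/-- inverse of `vR` -/
def viR : List ℕ :=
  [0x000102020102000000000000,
   0x020202010000020102010102,
   0x000102020101000002010201,
   0x020102000202000100010200,
   0x020100020000010001000001,
   0x000102000101000002020201,
   0x010101020102000002000202,
   0x020200010002000102000000,
   0x000000000000000100020001,
   0x000200020202010000020201,
   0x020202010102000001000101,
   0x020202010000010102010102]

/-- rows `(x u)ᵀ` -/
def uR : List ℕ :=
  [0x020100000200020001000201,
   0x020200000201020101000201,
   0x010001020201000100000202,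
   0x000101010002010002000201,
   0x010002020100010101010002,
   0x000201010101000102000202,
   0x020000010102020000000200,
   0x020000000101020000010000,
   0x020002020201010102010102,
   0x000201010002000000000101,
   0x010202020000020201020200,
   0x020100020001000201000201]

/-- inverse of `uR` -/
def uiR : List ℕ :=
  [0x010001010102000102020001,
   0x010001010100020101010200,
   0x000000000202000201010002,
   0x000102020201020000020100,
   0x000000010100010101000101,
   0x010202000101000101000201,
   0x010201000200020001010000,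
   0x020000020102020000000101,
   0x000100010000000001010202,
   0x010202020001000001020201,
   0x020102020000000201020001,
   0x020002020000010101020202]

/-- the row of `E` -/
def v0 : ℕ := 0x000102000200010200020101

/-- the column of `E` -/
def u0 : ℕ := 0x020100000200020001000201

/-- the words for `vR` -/
def vw : List (List ℕ) := [[], [1], [2], [3], [4], [1, 0], [1, 3], [1, 4], [2, 4], [3, 4], [1, 0, 4], [1, 3, 4]]

/-- the words for `uR` -/
def uw : List (List ℕ) := [[], [0], [1], [2], [3], [4], [5], [0, 1], [0, 3], [0, 4], [1, 0], [1, 3]]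

/-- the polynomial -/
def gp : List ℕ := [1, 2, 0, 0, 0, 1, 0, 0, 1, 2, 1, 1]

/-- all lists of the certificate -/
def M3 : ℕ → List ℕ
  | 0 => aR
  | 1 => bR
  | 2 => cR
  | 3 => dR
  | 4 => eR
  | 5 => fR
  | 8 => aT
  | 9 => bT
  | 10 => cT
  | 11 => dT
  | 12 => eT
  | 13 => fT
  | 20 => rR
  | 21 => vR
  | 22 => viR
  | 23 => uR
  | 24 => uiR
  | _ => idR

theorem good_aux3 : (good rR && good vR && good viR && good uR && good uiR) = true := by decide +kernel

theorem good_M3 (i : ℕ) : good (M3 i) = true := by
  have h := good_aux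
  have h' := good_aux3
  simp only [Bool.and_eq_true] at h h'
  unfold M3
  split <;> tauto

/-- entries of a product -/
def ent (w : List ℕ) (i j : ℕ) : ℕ := dg (ev M3 w (256 ^ i)) j

theorem ent_spec (w : List ℕ) (i j : I12) :
    ((ent w (ix i) (ix j) : ℕ) : ZMod 3) = (w.map fun i => toM (M3 i)).prod i j := by
  have h := congrFun (toV_ev good_M3 w (256 ^ ix i)) j
  rw [toV_pow, single_one_vecMul] at h
  exact h

theorem cast_of_mod {a b : ℕ} (h : (a % 3 == b % 3) = true) : (a : ZMod 3) = (b : ZMod 3) := by
  rw [beq_iff_eq] at h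
  rw [← ZMod.natCast_mod a, ← ZMod.natCast_mod b, h]

theorem all_spec {p : ℕ → ℕ → Bool} (h : ((List.range 12).all fun i => (List.range 12).all fun j => p i j) = true)
    (i j : I12) : p (ix i) (ix j) = true := by
  rw [List.all_eq_true] at h
  have h1 := h (ix i) (List.mem_range.2 (ix_lt i))
  rw [List.all_eq_true] at h1
  exact h1 (ix j) (List.mem_range.2 (ix_lt j))

theorem chk_r : ((List.range 12).all fun i => (List.range 12).all fun j =>
    dg (rR.getD i 0) j % 3 == (ent [5] i j + ent [2, 1] i j + ent [1, 5, 3] i j) % 3) = true := by decide +kernel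

theorem r_eq : toM rR = toM fR + toM cR * toM bR + toM bR * (toM fR * toM dR) := by
  refine Matrix.ext fun i j => ?_
  have h := cast_of_mod (all_spec chk_r i j)
  push_cast at h
  rw [ent_spec, ent_spec, ent_spec] at h
  simp only [List.map_cons, List.map_nil, List.prod_cons, List.prod_nil, mul_one] at h
  exact h

theorem chk_E : ((List.range 12).all fun i => (List.range 12).all fun j =>
    ((List.range 12).map fun k => gp.getD k 0 * ent (List.replicate k 20) i j).sum % 3 ==
      (dg u0 i * dg v0 j) % 3) = true := by decide +kernel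

theorem E_eq : ∑ k ∈ Finset.range 12, ((gp.getD k 0 : ℕ) : ZMod 3) • (toM rR) ^ k = vecMulVec (toV u0) (toV v0) := by
  refine Matrix.ext fun i j => ?_
  have h := cast_of_mod (all_spec chk_E i j)
  rw [Matrix.sum_apply, vecMulVec_apply]
  have e1 : ((((List.range 12).map fun k => gp.getD k 0 * ent (List.replicate k 20) (ix i) (ix j)).sum : ℕ) : ZMod 3) =
      ∑ k ∈ Finset.range 12, ((gp.getD k 0 * ent (List.replicate k 20) (ix i) (ix j) : ℕ) : ZMod 3) := by
    rw [← Nat.cast_sum]
    congr 1
  rw [e1] at h
  refine Eq.trans (Finset.sum_congr rfl fun k _ => ?_) (h.trans ?_)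
  · rw [Matrix.smul_apply, smul_eq_mul, Nat.cast_mul, ent_spec, List.map_replicate, List.prod_replicate]
    rfl
  · rw [Nat.cast_mul]
    rfl

theorem chk_v : ((List.range 12).all fun k => same 1 (ev M3 (vw.getD k []) v0) (vR.getD k 0)) = true := by decide +kernel

theorem chk_u : ((List.range 12).all fun k =>
    same 1 (ev M3 ((uw.getD k []).map fun i => i + 8) u0) (uR.getD k 0)) = true := by decide +kernel

theorem row_v (k : I12) : toV v0 ᵥ* ((vw.getD (ix k) []).map fun i => toM (M3 i)).prod = toM vR k := by
  have h := chk_v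
  rw [List.all_eq_true] at h
  have h1 := toV_same (h (ix k) (List.mem_range.2 (ix_lt k)))
  rw [toV_ev good_M3, Nat.cast_one, one_smul] at h1
  exact h1

theorem row_u (k : I12) : toV u0 ᵥ* (((uw.getD (ix k) []).map fun i => i + 8).map fun i => toM (M3 i)).prod = toM uR k := by
  have h := chk_u
  rw [List.all_eq_true] at h
  have h1 := toV_same (h (ix k) (List.mem_range.2 (ix_lt k)))
  rw [toV_ev good_M3, Nat.cast_one, one_smul] at h1
  exact h1

theorem chk_vi : eqB M3 1 [22, 21] [] = true := by decide +kernel
theorem chk_ui : eqB M3 1 [24, 23] [] = true := by decide +kernel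

theorem vi_mul : toM viR * toM vR = 1 := by
  have h := eqB_spec good_M3 chk_vi
  simpa [M3] using h

theorem ui_mul : toM uiR * toM uR = 1 := by
  have h := eqB_spec good_M3 chk_ui
  simpa [M3] using h

theorem chk_letters : ((vw.all fun w => w.all fun i => decide (i < 6)) && (uw.all fun w => w.all fun i => decide (i < 6)) &&
    decide (vw.length = 12) && decide (uw.length = 12)) = true := by decide

theorem vw_lt {k : ℕ} (hk : k < 12) : ∀ i ∈ vw.getD k [], i < 6 := by
  have h := chk_letters
  simp only [Bool.and_eq_true, List.all_eq_true, decide_eq_true_eq] at h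
  intro i hi
  rw [List.getD_eq_getElem vw [] (by omega)] at hi
  exact h.1.1.1 _ (List.getElem_mem _) i hi

theorem uw_lt {k : ℕ} (hk : k < 12) : ∀ i ∈ uw.getD k [], i < 6 := by
  have h := chk_letters
  simp only [Bool.and_eq_true, List.all_eq_true, decide_eq_true_eq] at h
  intro i hi
  rw [List.getD_eq_getElem uw [] (by omega)] at hi
  exact h.1.1.2 _ (List.getElem_mem _) i hi

theorem M3_eq {i : ℕ} (hi : i < 6) : M3 i = M i := by
  interval_cases i <;> rfl

theorem chk_tr : ((List.range 6).all fun i => trB (M3 i) (M3 (i + 8))) = true := by decide +kernel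

theorem toM_tr {i : ℕ} (hi : i < 6) : toM (M3 (i + 8)) = (toM (M i))ᵀ := by
  have h := chk_tr
  rw [List.all_eq_true] at h
  rw [← M3_eq hi]
  exact (trB_spec (h i (List.mem_range.2 hi))).symm

section field

variable {F : Type*} [Field F] (f : ZMod 3 →+* F)

/-- The algebra generated by `a, …, f` is the full matrix algebra (over every field of characteristic `3`). -/
theorem adjoin_top {S : Set (Matrix I12 I12 F)}
    (hS : ∀ i, i < 6 → f.mapMatrix (toM (M i)) ∈ Algebra.adjoin F S) : Algebra.adjoin F S = ⊤ := by
  set A := Algebra.adjoin F S with hA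
  have hw : ∀ w : List ℕ, (∀ i ∈ w, i < 6) → f.mapMatrix ((w.map fun i => toM (M3 i)).prod) ∈ A := by
    intro w
    induction w with
    | nil => intro _; simpa using A.one_mem
    | cons i w ih =>
      intro h
      rw [List.map_cons, List.prod_cons, map_mul]
      refine A.mul_mem ?_ (ih fun j hj => h j (List.mem_cons_of_mem _ hj))
      rw [M3_eq (h i List.mem_cons_self)]
      exact hS i (h i List.mem_cons_self)
  have hwt : ∀ w : List ℕ, (∀ i ∈ w, i < 6) →
      (f.mapMatrix (((w.map fun i => i + 8).map fun i => toM (M3 i)).prod))ᵀ ∈ A := by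
    intro w
    induction w with
    | nil => intro _; simpa using A.one_mem
    | cons i w ih =>
      intro h
      rw [List.map_cons, List.map_cons, List.prod_cons, map_mul, transpose_mul]
      refine A.mul_mem (ih fun j hj => h j (List.mem_cons_of_mem _ hj)) ?_
      rw [toM_tr (h i List.mem_cons_self)]
      have e : (f.mapMatrix (toM (M i))ᵀ)ᵀ = f.mapMatrix (toM (M i)) := by
        ext a b; rfl
      rw [e]
      exact hS i (h i List.mem_cons_self)
  have hr : f.mapMatrix (toM rR) ∈ A := by
    rw [r_eq, map_add, map_add, map_mul, map_mul, map_mul]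
    exact A.add_mem (A.add_mem (hS 5 (by norm_num)) (A.mul_mem (hS 2 (by norm_num)) (hS 1 (by norm_num))))
      (A.mul_mem (hS 1 (by norm_num)) (A.mul_mem (hS 5 (by norm_num)) (hS 3 (by norm_num))))
  have hE : vecMulVec (f ∘ toV u0) (f ∘ toV v0) ∈ A := by
    have e : vecMulVec (f ∘ toV u0) (f ∘ toV v0) = f.mapMatrix (vecMulVec (toV u0) (toV v0)) := by
      refine Matrix.ext fun i j => ?_
      rw [vecMulVec_apply, RingHom.mapMatrix_apply, map_apply, vecMulVec_apply, map_mul]
      rfl
    rw [e, ← E_eq, map_sum]
    refine A.sum_mem fun k _ => ?_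
    have e2 : f.mapMatrix (((gp.getD k 0 : ℕ) : ZMod 3) • toM rR ^ k) =
        f ((gp.getD k 0 : ℕ) : ZMod 3) • (f.mapMatrix (toM rR)) ^ k := by
      rw [← map_pow]
      refine Matrix.ext fun i j => ?_
      rw [RingHom.mapMatrix_apply, map_apply, Matrix.smul_apply, smul_eq_mul, map_mul, Matrix.smul_apply, smul_eq_mul]
      rfl
    rw [e2]
    exact A.smul_mem (A.pow_mem hr k) _
  -- the products of the columns and the rows
  have hkl : ∀ k l : I12, vecMulVec (f ∘ toM uR k) (f ∘ toM vR l) ∈ A := by
    intro k l
    have h1 := A.mul_mem (A.mul_mem (hwt _ (uw_lt (ix_lt k))) hE) (hw _ (vw_lt (ix_lt l)))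
    rw [mul_vecMulVec, vecMulVec_mul, mulVec_transpose] at h1
    have e1 : ∀ (x : I12 → ZMod 3) (N : Matrix I12 I12 (ZMod 3)), (f ∘ x) ᵥ* f.mapMatrix N = f ∘ (x ᵥ* N) := by
      intro x N
      funext j
      simp only [vecMul, dotProduct, Function.comp_apply, map_sum, map_mul, RingHom.mapMatrix_apply, map_apply]
    rw [e1, e1, row_u, row_v] at h1
    exact h1
  have hvi : f.mapMatrix (toM viR) * f.mapMatrix (toM vR) = 1 := by rw [← map_mul, vi_mul, map_one]
  have hui : f.mapMatrix (toM uiR) * f.mapMatrix (toM uR) = 1 := by rw [← map_mul, ui_mul, map_one]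
  rw [eq_top_iff]
  intro T _
  have hT : T = (f.mapMatrix (toM uR))ᵀ * ((f.mapMatrix (toM uiR))ᵀ * T * f.mapMatrix (toM viR)) * f.mapMatrix (toM vR) := by
    have h1 : (f.mapMatrix (toM uR))ᵀ * (f.mapMatrix (toM uiR))ᵀ = 1 := by
      rw [← transpose_mul, hui, transpose_one]
    calc T = ((f.mapMatrix (toM uR))ᵀ * (f.mapMatrix (toM uiR))ᵀ) * T * (f.mapMatrix (toM viR) * f.mapMatrix (toM vR)) := by
          rw [h1, hvi, one_mul, mul_one]
      _ = _ := by simp only [mul_assoc]
  have hsum : T = ∑ k : I12, ∑ l : I12, ((f.mapMatrix (toM uiR))ᵀ * T * f.mapMatrix (toM viR)) k l •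
      vecMulVec (f ∘ toM uR k) (f ∘ toM vR l) := by
    conv_lhs => rw [hT]
    refine Matrix.ext fun i j => ?_
    rw [Matrix.mul_apply, Matrix.sum_apply]
    simp only [Matrix.mul_apply (M := (f.mapMatrix (toM uR))ᵀ), Finset.sum_mul]
    rw [Finset.sum_comm]
    refine Finset.sum_congr rfl fun k _ => ?_
    rw [Matrix.sum_apply]
    refine Finset.sum_congr rfl fun l _ => ?_
    rw [Matrix.smul_apply, vecMulVec_apply, smul_eq_mul]
    have e1 : (f.mapMatrix (toM uR))ᵀ i k = (f ∘ toM uR k) i := rfl
    have e2 : f.mapMatrix (toM vR) l j = (f ∘ toM vR l) j := rfl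
    rw [e1, e2]
    ring
  rw [hsum]
  exact A.sum_mem fun k _ => A.sum_mem fun l _ => A.smul_mem (hkl k l) _

theorem absIrred {S : Set (Matrix I12 I12 F)}
    (hS : ∀ i, i < 6 → f.mapMatrix (toM (M i)) ∈ Algebra.adjoin F S) : ActsAbsolutelyIrreducibly S := by
  exact Cfsg.Agent.H919.absIrr_of_adjoin_eq_top (adjoin_top f hS)

end field

end Cfsg.Agent.H920.Sz12
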