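import Cfsg.Agent.H920.Sz12.GTwo
import Cfsg.Agent.H920.Sz12.Irr

/-!
# `2.G₂(4)` over a field with three elements is a core (helper920)

* `PF f` : the image of `P0`; `core_PF`, `soc_PF`, `norm_PF`.
-/

set_option autoImplicit false
set_option linter.style.haveILetI false

namespace Cfsg.Agent.H920.Sz12

open Matrix Cfsg Cfsg.Geo
open Cfsg.Agent.H915.LD (Core Soc toSoc toSoc_surjective)

section general

variable {ι : Type} [Fintype ι] [DecidableEq ι] {k F : Type*} [Field k] [Field F] (f : k →+* F)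

theorem map_injective : Function.Injective (Matrix.GeneralLinearGroup.map (n := ι) f) := by
  intro a b h
  apply Units.ext
  refine Matrix.ext fun i j => f.injective ?_
  exact congrArg (fun g : GL ι F => (g : Matrix ι ι F) i j) h

theorem map_mem_scalars [Nonempty ι] {x : GL ι k} :
    Matrix.GeneralLinearGroup.map f x ∈ scalars ι F ↔ x ∈ scalars ι k := by
  constructor
  · rintro ⟨c, hc⟩
    obtain ⟨i₀⟩ := (inferInstance : Nonempty ι)
    have h1 : ∀ i j, f ((x : Matrix ι ι k) i j) = if i = j then (c : F) else 0 := by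
      intro i j
      have h := congrArg (fun g : GL ι F => (g : Matrix ι ι F) i j) hc
      refine Eq.trans h.symm ?_
      show (Matrix.scalar ι (c : F)) i j = _
      rw [Matrix.scalar_apply, Matrix.diagonal_apply]
    have h2 : ∀ i j, (x : Matrix ι ι k) i j = if i = j then (x : Matrix ι ι k) i₀ i₀ else 0 := by
      intro i j
      apply f.injective
      rw [h1]
      by_cases hij : i = j
      · rw [if_pos hij, if_pos hij, h1, if_pos rfl]
      · rw [if_neg hij, if_neg hij, map_zero]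
    have h0 : (x : Matrix ι ι k) i₀ i₀ ≠ 0 := by
      intro h
      have h3 := h1 i₀ i₀
      rw [h, map_zero, if_pos rfl] at h3
      exact c.ne_zero h3.symm
    refine ⟨Units.mk0 _ h0, ?_⟩
    apply Units.ext
    refine Matrix.ext fun i j => ?_
    show (Matrix.scalar ι ((x : Matrix ι ι k) i₀ i₀)) i j = _
    rw [h2 i j, Matrix.scalar_apply, Matrix.diagonal_apply]
  · rintro ⟨c, rfl⟩
    refine ⟨Units.map f.toMonoidHom c, ?_⟩
    apply Units.ext
    refine Matrix.ext fun i j => ?_
    show (Matrix.scalar ι (f c)) i j = f ((Matrix.scalar ι (c : k)) i j)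
    rw [Matrix.scalar_apply, Matrix.diagonal_apply, Matrix.scalar_apply, Matrix.diagonal_apply]
    split_ifs
    · rfl
    · rw [map_zero]

theorem soc_map [Nonempty ι] (P : Subgroup (GL ι k)) :
    Nonempty (Soc P ≃* Soc (P.map (Matrix.GeneralLinearGroup.map f))) := by
  let e : P ≃* P.map (Matrix.GeneralLinearGroup.map (n := ι) f) := P.equivMapOfInjective _ (map_injective f)
  refine ⟨QuotientGroup.congr _ _ e ?_⟩
  ext y
  constructor
  · rintro ⟨x, hx, rfl⟩
    rw [Subgroup.mem_subgroupOf]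
    exact (map_mem_scalars f).2 (Subgroup.mem_subgroupOf.1 hx)
  · intro hy
    obtain ⟨x, rfl⟩ := e.surjective y
    refine ⟨x, ?_, rfl⟩
    have h1 : Matrix.GeneralLinearGroup.map f (x : GL ι k) ∈ scalars ι F := Subgroup.mem_subgroupOf.1 hy
    exact Subgroup.mem_subgroupOf.2 ((map_mem_scalars f).1 h1)

theorem perfect_map {P : Subgroup (GL ι k)} (h : ⁅P, P⁆ = P) :
    ⁅P.map (Matrix.GeneralLinearGroup.map (n := ι) f), P.map (Matrix.GeneralLinearGroup.map f)⁆ =
      P.map (Matrix.GeneralLinearGroup.map f) := by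
  rw [← Subgroup.map_commutator, h]

end general

variable {F : Type*} [Field F] (f : ZMod 3 →+* F)

/-- `2.G₂(4)` over `F` -/
noncomputable def PF : Subgroup (GL I12 F) := P0.map (Matrix.GeneralLinearGroup.map f)

theorem soc_PF : Nonempty (Soc (PF f) ≃* A1) := by
  haveI : Nonempty I12 := ⟨Sum.inl 0⟩
  obtain ⟨e⟩ := soc_map f P0
  obtain ⟨e'⟩ := soc_P0
  exact ⟨e.symm.trans e'⟩

theorem PF_le : PF f ≤ WF f := Subgroup.map_mono (P0_le.trans LL_le_W)

theorem norm_PF {x : GL I12 F} (hx : x ∈ PF f) : GF f 7 * x * (GF f 7)⁻¹ ∈ PF f := by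
  obtain ⟨y, hy, rfl⟩ := hx
  refine ⟨G 7 * y * (G 7)⁻¹, norm_P0 hy, ?_⟩
  rw [map_mul, map_mul, map_inv]
  rfl

theorem absIrred_PF : ActsAbsolutelyIrreducibly (matrixSet (PF f)) := by
  apply absIrred f
  intro i hi
  have h1 : G i ∈ P0 ⊔ scalars I12 (ZMod 3) := by
    rw [sup_P0]
    exact G_mem_LL hi
  rw [Subgroup.mem_sup_of_normal_right] at h1
  obtain ⟨x, hx, z, ⟨c, rfl⟩, hxz⟩ := h1
  have h2 : f.mapMatrix (toM (M i)) = f (c : ZMod 3) • f.mapMatrix (x : Matrix I12 I12 (ZMod 3)) := by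
    have h3 : toM (M i) = (x : Matrix I12 I12 (ZMod 3)) * Matrix.scalar I12 (c : ZMod 3) :=
      (congrArg (fun g : GL I12 (ZMod 3) => (g : Matrix I12 I12 (ZMod 3))) hxz).symm
    rw [h3]
    refine Matrix.ext fun a b => ?_
    rw [RingHom.mapMatrix_apply, map_apply, Matrix.scalar_apply, Matrix.mul_diagonal, map_mul, Matrix.smul_apply,
      smul_eq_mul, mul_comm]
    rfl
  rw [h2]
  have h4 : f.mapMatrix (x : Matrix I12 I12 (ZMod 3)) ∈ matrixSet (PF f) :=
    ⟨Matrix.GeneralLinearGroup.map f x, ⟨x, hx, rfl⟩, rfl⟩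
  exact (Algebra.adjoin F _).smul_mem (Algebra.subset_adjoin h4) _

include f in
theorem subfield_eq_top (hF : Nat.card F = 3) (K : Subfield F) : K = ⊤ := by
  haveI : Finite F := Nat.finite_of_card_ne_zero (by rw [hF]; norm_num)
  haveI := Fintype.ofFinite F
  have hb : Function.Bijective f := by
    rw [Fintype.bijective_iff_injective_and_card]
    exact ⟨f.injective, by rw [ZMod.card, ← Nat.card_eq_fintype_card, hF]⟩
  rw [eq_top_iff]
  intro x _
  obtain ⟨a, rfl⟩ := hb.2 x
  have h1 : f a = ((ZMod.val a : ℕ) : F) := by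
    rw [← map_natCast f, ZMod.natCast_zmod_val]
  rw [h1]
  exact natCast_mem K _

theorem core_PF (hF : Nat.card F = 3) : Core (PF f) := by
  obtain ⟨e⟩ := soc_PF f
  obtain ⟨h1, h2⟩ := A1_simple
  refine ⟨perfect_map f perfect_P0, ?_, fun h => h2 ⟨⟨fun a b => ?_⟩⟩, absIrred_PF f, fun K hK => (hK (subfield_eq_top f hF K)).elim⟩
  · haveI := h1
    haveI : Nontrivial (Soc (PF f)) := e.toEquiv.nontrivial
    exact IsSimpleGroup.isSimpleGroup_of_surjective e.symm.toMonoidHom e.symm.surjective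
  · apply e.symm.injective
    rw [map_mul, map_mul]
    exact h.is_comm.comm _ _

end Cfsg.Agent.H920.Sz12
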