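import Mathlib.LinearAlgebra.Matrix.GeneralLinearGroup.Defs
import Mathlib.Data.ZMod.Basic
import Mathlib.Algebra.BigOperators.Fin
import Mathlib.Tactic
import Mathlib.Data.List.GetD

/-!
# Products of explicit `12 × 12` matrices over `ZMod 3` (helper920)

A vector is a natural number whose digits in base `256` are the coordinates; a matrix is the list of its rows.
-/

set_option autoImplicit false

namespace Cfsg.Agent.H920.Sz12

open Matrix

/-- the `j`-th digit -/
def dg (v j : ℕ) : ℕ := v / 256 ^ j % 256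

/-- row vector times matrix -/
def step : List ℕ → ℕ → ℕ → ℕ
  | [], _, acc => acc
  | r :: rs, v, acc => step rs (v / 256) (acc + v % 256 % 3 * r)

theorem step_eq (rs : List ℕ) : ∀ v acc : ℕ, step rs v acc = acc + ∑ i ∈ Finset.range rs.length, dg v i % 3 * rs.getD i 0 := by
  induction rs with
  | nil => intro v acc; simp [step]
  | cons r rs ih =>
    intro v acc
    rw [step, ih, List.length_cons, Finset.sum_range_succ', add_assoc]
    congr 1
    rw [add_comm]
    congr 1
    · refine Finset.sum_congr rfl fun i _ => ?_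
      rw [List.getD_cons_succ]
      congr 2
      unfold dg
      rw [Nat.div_div_eq_div_mul, pow_succ, mul_comm (256 ^ i)]
    · rw [List.getD_cons_zero]
      unfold dg
      rw [pow_zero, Nat.div_one]

theorem sum_digits (n : ℕ) : ∀ d : ℕ → ℕ, (∀ i, i < n → d i < 256) →
    ∑ i ∈ Finset.range n, d i * 256 ^ i < 256 ^ n ∧
    ∀ j, j < n → dg (∑ i ∈ Finset.range n, d i * 256 ^ i) j = d j := by
  induction n with
  | zero => intro d _; exact ⟨by simp, fun j hj => absurd hj (Nat.not_lt_zero j)⟩
  | succ n ih =>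
    intro d hd
    have e : ∑ i ∈ Finset.range (n + 1), d i * 256 ^ i = d 0 + 256 * ∑ i ∈ Finset.range n, d (i + 1) * 256 ^ i := by
      rw [Finset.sum_range_succ', add_comm, pow_zero, mul_one, Finset.mul_sum]
      congr 1
      refine Finset.sum_congr rfl fun i _ => ?_
      rw [pow_succ]; ring
    obtain ⟨h1, h2⟩ := ih (fun i => d (i + 1)) (fun i hi => hd (i + 1) (by omega))
    have h0 := hd 0 (Nat.succ_pos n)
    rw [e]
    refine ⟨?_, fun j hj => ?_⟩
    · rw [pow_succ]; omega
    · cases j with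
      | zero =>
        unfold dg
        rw [pow_zero, Nat.div_one, Nat.add_mul_mod_self_left, Nat.mod_eq_of_lt h0]
      | succ j =>
        have h3 := h2 j (by omega)
        have h4 : (d 0 + 256 * ∑ i ∈ Finset.range n, d (i + 1) * 256 ^ i) / 256 = ∑ i ∈ Finset.range n, d (i + 1) * 256 ^ i := by
          rw [Nat.add_mul_div_left _ _ (by norm_num), Nat.div_eq_of_lt h0, zero_add]
        rw [← h3]
        unfold dg
        rw [pow_succ, mul_comm (256 ^ j), ← Nat.div_div_eq_div_mul, h4]

theorem eq_sum_digits (n : ℕ) : ∀ v : ℕ, v < 256 ^ n → v = ∑ i ∈ Finset.range n, dg v i * 256 ^ i := by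
  induction n with
  | zero => intro v hv; simpa using hv
  | succ n ih =>
    intro v hv
    rw [Finset.sum_range_succ']
    have h1 : v / 256 < 256 ^ n := by
      rw [Nat.div_lt_iff_lt_mul (by norm_num), ← pow_succ]; exact hv
    have h2 := ih _ h1
    have h3 : ∑ i ∈ Finset.range n, dg v (i + 1) * 256 ^ (i + 1) = 256 * ∑ i ∈ Finset.range n, dg (v / 256) i * 256 ^ i := by
      rw [Finset.mul_sum]
      refine Finset.sum_congr rfl fun i _ => ?_
      have : dg v (i + 1) = dg (v / 256) i := by
        unfold dg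
        rw [Nat.div_div_eq_div_mul, pow_succ, mul_comm (256 ^ i)]
      rw [this, pow_succ]; ring
    rw [h3, ← h2]
    unfold dg
    rw [pow_zero, Nat.div_one, mul_one]
    omega

/-- the index type -/
abbrev I12 : Type := Fin 6 ⊕ Fin 6

/-- the position of an index -/
def ix (i : I12) : ℕ := (finSumFinEquiv i : Fin 12).val

theorem ix_lt (i : I12) : ix i < 12 := (finSumFinEquiv i : Fin 12).isLt

theorem ix_inj {i j : I12} (h : ix i = ix j) : i = j := finSumFinEquiv.injective (Fin.ext h)

theorem sum_ix {M : Type*} [AddCommMonoid M] (f : ℕ → M) : ∑ i : I12, f (ix i) = ∑ i ∈ Finset.range 12, f i := by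
  rw [← Fin.sum_univ_eq_sum_range, ← Equiv.sum_comp (finSumFinEquiv : Fin 6 ⊕ Fin 6 ≃ Fin (6 + 6))]
  rfl

/-- the matrix of a list of rows -/
def toM (R : List ℕ) : Matrix I12 I12 (ZMod 3) := fun i j => (dg (R.getD (ix i) 0) (ix j) : ZMod 3)

/-- the vector of a number -/
def toV (v : ℕ) : I12 → ZMod 3 := fun j => (dg v (ix j) : ZMod 3)

/-- the entries of the matrix are at most `2` -/
def good (R : List ℕ) : Bool :=
  R.length == 12 && R.all fun r => decide (r < 256 ^ 12) && (List.range 12).all fun j => decide (dg r j ≤ 2)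

theorem good_spec {R : List ℕ} (h : good R = true) : R.length = 12 ∧
    ∀ i, i < 12 → R.getD i 0 < 256 ^ 12 ∧ ∀ j, j < 12 → dg (R.getD i 0) j ≤ 2 := by
  unfold good at h
  rw [Bool.and_eq_true, beq_iff_eq, List.all_eq_true] at h
  refine ⟨h.1, fun i hi => ?_⟩
  have h1 : R.getD i 0 ∈ R := by
    rw [List.getD_eq_getElem R 0 (by omega)]
    exact List.getElem_mem _
  have h2 := h.2 _ h1
  rw [Bool.and_eq_true, decide_eq_true_eq, List.all_eq_true] at h2
  exact ⟨h2.1, fun j hj => by simpa using h2.2 j (List.mem_range.2 hj)⟩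

theorem toV_step {R : List ℕ} (hR : good R = true) (v : ℕ) : toV (step R v 0) = toV v ᵥ* toM R := by
  obtain ⟨hl, h⟩ := good_spec hR
  have e1 : step R v 0 = ∑ j ∈ Finset.range 12, (∑ i ∈ Finset.range 12, dg v i % 3 * dg (R.getD i 0) j) * 256 ^ j := by
    rw [step_eq, zero_add, hl]
    have e2 : ∀ i ∈ Finset.range 12, dg v i % 3 * R.getD i 0 =
        ∑ j ∈ Finset.range 12, dg v i % 3 * dg (R.getD i 0) j * 256 ^ j := by
      intro i hi
      conv_lhs => rw [eq_sum_digits 12 _ (h i (Finset.mem_range.1 hi)).1]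
      rw [Finset.mul_sum]
      exact Finset.sum_congr rfl fun j _ => by ring
    rw [Finset.sum_congr rfl e2, Finset.sum_comm]
    exact Finset.sum_congr rfl fun j _ => by rw [Finset.sum_mul]
  have hb : ∀ j, j < 12 → ∑ i ∈ Finset.range 12, dg v i % 3 * dg (R.getD i 0) j < 256 := by
    intro j hj
    calc ∑ i ∈ Finset.range 12, dg v i % 3 * dg (R.getD i 0) j ≤ ∑ _i ∈ Finset.range 12, 4 := by
          refine Finset.sum_le_sum fun i hi => ?_
          have h1 : dg v i % 3 ≤ 2 := by omega
          exact Nat.mul_le_mul h1 ((h i (Finset.mem_range.1 hi)).2 j hj)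
      _ < 256 := by simp
  funext j
  have h3 := (sum_digits 12 _ hb).2 (ix j) (ix_lt j)
  unfold toV
  rw [e1, h3]
  simp only [vecMul, dotProduct, toM]
  rw [sum_ix (fun i => ((dg v i : ZMod 3)) * (dg (R.getD i 0) (ix j) : ZMod 3))]
  push_cast
  refine Finset.sum_congr rfl fun i _ => ?_
  rw [ZMod.natCast_mod]

/-- evaluation of a word -/
def ev (M : ℕ → List ℕ) : List ℕ → ℕ → ℕ
  | [], v => v
  | i :: w, v => ev M w (step (M i) v 0)

theorem toV_ev {M : ℕ → List ℕ} (hM : ∀ i, good (M i) = true) : ∀ (w : List ℕ) (v : ℕ),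
    toV (ev M w v) = toV v ᵥ* (w.map fun i => toM (M i)).prod := by
  intro w
  induction w with
  | nil => intro v; simp [ev]
  | cons i w ih =>
    intro v
    rw [ev, ih, toV_step (hM i), List.map_cons, List.prod_cons, vecMul_vecMul]

/-- compare `x` with `s y` -/
def same (s x y : ℕ) : Bool := (List.range 12).all fun j => dg x j % 3 == s * dg y j % 3

theorem toV_same {s x y : ℕ} (h : same s x y = true) : toV x = (s : ZMod 3) • toV y := by
  unfold same at h
  rw [List.all_eq_true] at h
  funext j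
  have h1 := h (ix j) (List.mem_range.2 (ix_lt j))
  rw [beq_iff_eq] at h1
  have h2 : ((dg x (ix j) % 3 : ℕ) : ZMod 3) = ((s * dg y (ix j) % 3 : ℕ) : ZMod 3) := by rw [h1]
  rw [ZMod.natCast_mod, ZMod.natCast_mod] at h2
  simp only [toV, Pi.smul_apply, smul_eq_mul]
  rw [h2]
  push_cast
  rfl

/-- compare the product of `w` with `s` times the product of `w'` -/
def eqB (M : ℕ → List ℕ) (s : ℕ) (w w' : List ℕ) : Bool :=
  (List.range 12).all fun i => same s (ev M w (256 ^ i)) (ev M w' (256 ^ i))

theorem toV_pow (i : I12) : toV (256 ^ ix i) = Pi.single i 1 := by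
  have h := (sum_digits 12 (fun k => if k = ix i then 1 else 0) (fun k _ => by split_ifs <;> norm_num)).2
  have e : ∑ k ∈ Finset.range 12, (if k = ix i then 1 else 0) * 256 ^ k = 256 ^ ix i := by
    rw [Finset.sum_eq_single_of_mem (ix i) (Finset.mem_range.2 (ix_lt i))]
    · rw [if_pos rfl, one_mul]
    · intro k _ hk
      rw [if_neg hk, zero_mul]
  rw [e] at h
  funext j
  unfold toV
  rw [h (ix j) (ix_lt j)]
  by_cases hj : j = i
  · subst hj
    simp
  · rw [if_neg (fun h => hj (ix_inj h)), Pi.single_eq_of_ne hj, Nat.cast_zero]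

theorem eqB_spec {M : ℕ → List ℕ} (hM : ∀ i, good (M i) = true) {s : ℕ} {w w' : List ℕ} (h : eqB M s w w' = true) :
    (w.map fun i => toM (M i)).prod = (s : ZMod 3) • (w'.map fun i => toM (M i)).prod := by
  unfold eqB at h
  rw [List.all_eq_true] at h
  have key : ∀ i : I12, Pi.single i 1 ᵥ* (w.map fun i => toM (M i)).prod =
      (s : ZMod 3) • (Pi.single i 1 ᵥ* (w'.map fun i => toM (M i)).prod) := by
    intro i
    have h1 := toV_same (h (ix i) (List.mem_range.2 (ix_lt i)))
    rwa [toV_ev hM, toV_ev hM, toV_pow] at h1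
  refine Matrix.ext fun i j => ?_
  have h2 := congrFun (key i) j
  rw [single_one_vecMul, single_one_vecMul] at h2
  exact h2

/-- transposed lists -/
def trB (R T : List ℕ) : Bool :=
  (List.range 12).all fun i => (List.range 12).all fun j => dg (R.getD i 0) j == dg (T.getD j 0) i

theorem trB_spec {R T : List ℕ} (h : trB R T = true) : (toM R)ᵀ = toM T := by
  unfold trB at h
  rw [List.all_eq_true] at h
  refine Matrix.ext fun i j => ?_
  have h1 := h (ix j) (List.mem_range.2 (ix_lt j))
  rw [List.all_eq_true] at h1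
  have h2 := h1 (ix i) (List.mem_range.2 (ix_lt i))
  rw [beq_iff_eq] at h2
  simp only [transpose_apply, toM]
  rw [h2]

end Cfsg.Agent.H920.Sz12
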