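import Cfsg.Agent.H920.Sz12.Model
import Cfsg.Agent.H914.SixBase
import Cfsg.Agent.H955.Sp

/-!
# The alternating form; the model over a field of characteristic `3` (helper920)

* `GF f i`, `WF f` : the model over `F`, for `f : ZMod 3 →+* F`;
* `GF_mem` (`i < 7`), `WF_le` : in `spGL 6 F`; `GF_seven` : the letter `7` multiplies the form by `-1`;
* `card_WF`; `WF_ne` : `WF ≠ spGL 6 F`.
-/

set_option autoImplicit false
set_option Elab.async false

namespace Cfsg.Agent.H920.Sz12

open Matrix Cfsg Cfsg.Geo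

theorem J_eq : toM jR = Matrix.J (Fin 6) (ZMod 3) := by
  have h1 : ∀ i j : Fin 6, toM jR (Sum.inl i) (Sum.inl j) = 0 := by decide +kernel
  have h2 : ∀ i j : Fin 6, toM jR (Sum.inl i) (Sum.inr j) = -(if i = j then 1 else 0) := by decide +kernel
  have h3 : ∀ i j : Fin 6, toM jR (Sum.inr i) (Sum.inl j) = if i = j then 1 else 0 := by decide +kernel
  have h4 : ∀ i j : Fin 6, toM jR (Sum.inr i) (Sum.inr j) = 0 := by decide +kernel
  refine Matrix.ext fun i j => ?_
  unfold Matrix.J
  rcases i with i | i <;> rcases j with j | j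
  · rw [h1]; rfl
  · rw [h2, fromBlocks_apply₁₂, Matrix.neg_apply, Matrix.one_apply]
  · rw [h3, fromBlocks_apply₂₁, Matrix.one_apply]
  · rw [h4]; rfl

theorem chk_tr8 : ((List.range 8).all fun i => trB (M' i) (M' (i + 8))) = true := by decide +kernel
theorem chk_form : ((List.range 7).all fun i => eqB M' 1 [i + 8, 16, i] [16]) = true := by decide +kernel
theorem chk_form7 : eqB M' 2 [15, 16, 7] [16] = true := by decide +kernel

theorem M'_eq {i : ℕ} (hi : i < 8) : M' i = M i := by
  interval_cases i <;> rfl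

theorem tr8 {i : ℕ} (hi : i < 8) : toM (M' (i + 8)) = (toM (M i))ᵀ := by
  have h := chk_tr8
  rw [List.all_eq_true] at h
  rw [← M'_eq hi]
  exact (trB_spec (h i (List.mem_range.2 hi))).symm

theorem form_G {i : ℕ} (hi : i < 7) : (toM (M i))ᵀ * Matrix.J (Fin 6) (ZMod 3) * toM (M i) = Matrix.J (Fin 6) (ZMod 3) := by
  have h := chk_form
  rw [List.all_eq_true] at h
  have h1 := eqB_spec good_M' (h i (List.mem_range.2 hi))
  simp only [List.map_cons, List.map_nil, List.prod_cons, List.prod_nil, mul_one, Nat.cast_one, one_smul] at h1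
  rw [tr8 (i := i) (by omega), M'_eq (i := i) (by omega)] at h1
  have e : toM (M' 16) = Matrix.J (Fin 6) (ZMod 3) := J_eq
  rw [e, ← mul_assoc] at h1
  exact h1

theorem form_seven : (toM (M 7))ᵀ * Matrix.J (Fin 6) (ZMod 3) * toM (M 7) = -Matrix.J (Fin 6) (ZMod 3) := by
  have h1 := eqB_spec good_M' chk_form7
  simp only [List.map_cons, List.map_nil, List.prod_cons, List.prod_nil, mul_one] at h1
  rw [show 15 = 7 + 8 from rfl, tr8 (i := 7) (by omega), M'_eq (i := 7) (by omega)] at h1
  have e : toM (M' 16) = Matrix.J (Fin 6) (ZMod 3) := J_eq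
  have e2 : ((2 : ℕ) : ZMod 3) = -1 := by decide
  rw [e, ← mul_assoc, e2, neg_one_smul] at h1
  exact h1

section

variable {R : Type*} [CommRing R]

theorem sympForm_of {A : Matrix I12 I12 R} {c : R} (h : Aᵀ * Matrix.J (Fin 6) R * A = c • Matrix.J (Fin 6) R)
    (u v : I12 → R) : sympForm 6 R (A *ᵥ u) (A *ᵥ v) = c * sympForm 6 R u v := by
  unfold sympForm
  rw [dotProduct_mulVec, vecMul_mulVec, ← dotProduct_mulVec, mulVec_mulVec, h, smul_mulVec, dotProduct_smul, smul_eq_mul]

end

variable {F : Type*} [Field F] (f : ZMod 3 →+* F)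

/-- the letters over `F` -/
def GF (i : ℕ) : GL I12 F := Matrix.GeneralLinearGroup.map f (G i)

theorem coe_GF (i : ℕ) : ((GF f i : GL I12 F) : Matrix I12 I12 F) = f.mapMatrix (toM (M i)) := rfl

/-- `2.Suz` over `F` -/
noncomputable def WF : Subgroup (GL I12 F) := W.map (Matrix.GeneralLinearGroup.map f)

theorem GF_mem_WF {i : ℕ} (hi : i < 7) : GF f i ∈ WF f := Subgroup.mem_map_of_mem _ (G_mem_W hi)

theorem map_J : f.mapMatrix (Matrix.J (Fin 6) (ZMod 3)) = Matrix.J (Fin 6) F := by
  refine Matrix.ext fun i j => ?_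
  rw [RingHom.mapMatrix_apply, map_apply]
  unfold Matrix.J
  rcases i with i | i <;> rcases j with j | j
  · simp
  · rw [fromBlocks_apply₁₂, fromBlocks_apply₁₂, Matrix.neg_apply, Matrix.neg_apply, Matrix.one_apply, Matrix.one_apply,
      map_neg]
    split_ifs <;> simp
  · rw [fromBlocks_apply₂₁, fromBlocks_apply₂₁, Matrix.one_apply, Matrix.one_apply]
    split_ifs <;> simp
  · simp

theorem map_form {A : Matrix I12 I12 (ZMod 3)} {c : ZMod 3}
    (h : Aᵀ * Matrix.J (Fin 6) (ZMod 3) * A = c • Matrix.J (Fin 6) (ZMod 3)) :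
    (f.mapMatrix A)ᵀ * Matrix.J (Fin 6) F * f.mapMatrix A = f c • Matrix.J (Fin 6) F := by
  have h1 := congrArg f.mapMatrix h
  rw [map_mul, map_mul, map_J] at h1
  have e1 : f.mapMatrix Aᵀ = (f.mapMatrix A)ᵀ := rfl
  have e2 : f.mapMatrix (c • Matrix.J (Fin 6) (ZMod 3)) = f c • Matrix.J (Fin 6) F := by
    rw [← map_J f]
    refine Matrix.ext fun i j => ?_
    rw [RingHom.mapMatrix_apply, map_apply, Matrix.smul_apply, smul_eq_mul, map_mul, Matrix.smul_apply, smul_eq_mul]
    rfl
  rw [e1, e2] at h1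
  exact h1

theorem GF_mem {i : ℕ} (hi : i < 7) : GF f i ∈ spGL 6 F := by
  rw [H931.mem_spGL_iff]
  intro u v
  have h := map_form f (c := 1) (A := toM (M i)) (by rw [one_smul]; exact form_G hi)
  have h1 := sympForm_of h u v
  rw [map_one, one_mul] at h1
  exact h1

/-- the letter `7` multiplies the form by `-1` -/
theorem GF_seven (u v : I12 → F) : sympForm 6 F ((GF f 7 : Matrix I12 I12 F) *ᵥ u) ((GF f 7 : Matrix I12 I12 F) *ᵥ v) =
    -sympForm 6 F u v := by
  have h := map_form f (c := -1) (A := toM (M 7)) (by rw [neg_one_smul]; exact form_seven)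
  have h1 := sympForm_of h u v
  rw [map_neg, map_one, neg_one_mul] at h1
  exact h1

theorem scalars_le : scalars I12 (ZMod 3) ≤ spGL 6 (ZMod 3) := by
  rintro _ ⟨c, rfl⟩
  have hc : c = 1 ∨ c = -1 := by revert c; decide
  rcases hc with rfl | rfl
  · rw [map_one]; exact one_mem _
  · have e : Units.map ((Matrix.scalar I12 : ZMod 3 →+* Matrix I12 I12 (ZMod 3)).toMonoidHom) (-1) = -1 := by
      apply Units.ext
      simp
    rw [e]
    exact H914.S6.neg_one_mem

theorem W_le : W ≤ spGL 6 (ZMod 3) := by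
  have h1 : φ.range ≤ (spGL 6 (ZMod 3)).map (QuotientGroup.mk' (scalars I12 (ZMod 3))) := by
    rw [MonoidHom.range_eq_map, ← PresentedGroup.closure_range_of, MonoidHom.map_closure, Subgroup.closure_le]
    rintro _ ⟨_, ⟨x, rfl⟩, rfl⟩
    refine ⟨G (pos x), ?_, (φ_of x).symm⟩
    have h2 : pos x < 7 := by cases x <;> decide
    have h3 := GF_mem (RingHom.id (ZMod 3)) h2
    have e : GF (RingHom.id (ZMod 3)) (pos x) = G (pos x) := by
      apply Units.ext
      rw [coe_GF]
      rfl
    rw [e] at h3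
    exact h3
  intro x hx
  obtain ⟨y, hy, hxy⟩ := h1 hx
  have h2 : y⁻¹ * x ∈ scalars I12 (ZMod 3) := QuotientGroup.eq.1 hxy
  have h3 := (spGL 6 (ZMod 3)).mul_mem hy (scalars_le h2)
  rwa [mul_inv_cancel_left] at h3

theorem map_spGL_le : (spGL 6 (ZMod 3)).map (Matrix.GeneralLinearGroup.map f) ≤ spGL 6 F := by
  rintro _ ⟨x, hx, rfl⟩
  rw [H931.mem_spGL_iff]
  intro u v
  have h := map_form f (c := 1) (A := (x : Matrix I12 I12 (ZMod 3))) (by rw [one_smul]; exact H914.S6.transpose_J hx)
  have h1 := sympForm_of h u v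
  rw [map_one, one_mul] at h1
  exact h1

theorem WF_le : WF f ≤ spGL 6 F := (Subgroup.map_mono W_le).trans (map_spGL_le f)

theorem card_scalars : Nat.card (scalars I12 (ZMod 3)) = 2 := by
  unfold scalars
  have hinj : Function.Injective (Units.map (Matrix.scalar I12 : ZMod 3 →+* Matrix I12 I12 (ZMod 3)).toMonoidHom) := by
    intro a b h
    have h1 := congrArg (fun g : GL I12 (ZMod 3) => (g : Matrix I12 I12 (ZMod 3)) (Sum.inl 0) (Sum.inl 0)) h
    apply Units.ext
    simpa using h1
  rw [← Nat.card_congr (MonoidHom.ofInjective hinj).toEquiv, Nat.card_eq_fintype_card]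
  decide

theorem card_W : Nat.card W = 896690995200 := by
  have h1 := φ.range.index_comap_of_surjective (QuotientGroup.mk'_surjective (scalars I12 (ZMod 3)))
  have h2 : Nat.card φ.range = 448345497600 := by
    rw [← Nat.card_congr (MonoidHom.ofInjective φ_injective).toEquiv]
    exact Cfsg.Agent.S1694.result.2
  have h3 := W.card_mul_index
  have h4 := φ.range.card_mul_index
  have h5 := (scalars I12 (ZMod 3)).card_mul_index
  have h6 : (scalars I12 (ZMod 3)).index = Nat.card QQ := rfl
  rw [card_scalars, h6, ← h4, h2] at h5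
  have h7 : W.index = φ.range.index := h1
  rw [h7, ← h5] at h3
  have h8 : φ.range.index ≠ 0 := Subgroup.index_ne_zero_of_finite
  have h9 : Nat.card W * φ.range.index = 2 * 448345497600 * φ.range.index := by rw [h3, mul_assoc]
  have := Nat.eq_of_mul_eq_mul_right (Nat.pos_of_ne_zero h8) h9
  omega

theorem card_WF : Nat.card (WF f) = 896690995200 := by
  have hinj : Function.Injective (Matrix.GeneralLinearGroup.map (n := I12) f) := by
    intro a b h
    apply Units.ext
    refine Matrix.ext fun i j => f.injective ?_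
    exact congrArg (fun g : GL I12 F => (g : Matrix I12 I12 F) i j) h
  rw [← card_W]
  exact (Nat.card_congr (W.equivMapOfInjective _ hinj).toEquiv).symm

theorem WF_ne [Finite F] (hF : Nat.card F = 3) : WF f ≠ spGL 6 F := by
  intro h
  have h1 := card_WF f
  rw [h, H955.card_spGL, hF] at h1
  norm_num [Finset.prod_range_succ] at h1

end Cfsg.Agent.H920.Sz12
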