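import Cfsg.Agent.H920.SympA
import Cfsg.Agent.H915.LD
import Cfsg.Agent.H912.LSUse
import Cfsg.Agent.H919.AschSplit
import Cfsg.Prelude.Def_KGroupFacts

/-!
# A core whose simple quotient has two outer classes (helper920)

* `conjSoc` : the normaliser of `P` acts on `Soc P`;
* `mem_of_inner` : an element inducing an inner automorphism lies in `P ⊔ scalars`;
* `mul_mem_of_out` : `|Out (Soc P)| = 2`: the product of two elements outside `P ⊔ scalars` lies in `P ⊔ scalars`.
-/

set_option autoImplicit false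
set_option linter.unusedSectionVars false

namespace Cfsg.Agent.H920.Sz12

open Cfsg Cfsg.Geo Matrix
open Cfsg.Agent.H915.LD

universe u

variable {ι : Type} [Fintype ι] [DecidableEq ι] {F : Type u} [Field F] [Finite F] {P : Subgroup (GL ι F)}

theorem scalars_eq_center (hP : ActsAbsolutelyIrreducibly (matrixSet P)) :
    (scalars ι F).subgroupOf P = Subgroup.center P := by
  apply le_antisymm scalars_le_center
  intro z hz
  rw [Subgroup.mem_subgroupOf]
  refine H920.mem_scalars_of_comm' hP ?_
  intro x hx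
  have := (Subgroup.mem_center_iff.1 hz) ⟨x, hx⟩
  exact (congrArg Subtype.val this).symm

/-- An automorphism of `P` induces one of `Soc P`. -/
noncomputable def socAut (hP : ActsAbsolutelyIrreducibly (matrixSet P)) : MulAut P →* MulAut (Soc P) where
  toFun φ := QuotientGroup.congr _ _ φ (by
    rw [scalars_eq_center hP]
    exact Subgroup.characteristic_iff_map_eq.1 inferInstance φ)
  map_one' := by
    ext x
    induction x using QuotientGroup.induction_on with
    | H x => rfl
  map_mul' a b := by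
    ext x
    induction x using QuotientGroup.induction_on with
    | H x => rfl

theorem socAut_mk (hP : ActsAbsolutelyIrreducibly (matrixSet P)) (φ : MulAut P) (x : P) :
    socAut hP φ (toSoc P x) = toSoc P (φ x) := rfl

theorem mem_normalizer {g : GL ι F} (hg : ∀ x ∈ P, g * x * g⁻¹ ∈ P) :
    g ∈ Subgroup.normalizer (P : Set (GL ι F)) := by
  rw [Subgroup.mem_normalizer_iff]
  have hinj : Function.Injective (fun x : P => (⟨g * x * g⁻¹, hg x x.2⟩ : P)) := by
    intro a b hab
    have h1 : g * (a : GL ι F) * g⁻¹ = g * b * g⁻¹ := congrArg Subtype.val hab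
    exact Subtype.ext (mul_left_cancel (mul_right_cancel h1))
  intro x
  refine ⟨fun hx => hg x hx, fun hx => ?_⟩
  obtain ⟨y, hy⟩ := (Finite.injective_iff_surjective.1 hinj) ⟨_, hx⟩
  have h1 : g * (y : GL ι F) * g⁻¹ = g * x * g⁻¹ := congrArg Subtype.val hy
  have h2 : (y : GL ι F) = x := mul_left_cancel (mul_right_cancel h1)
  rw [← h2]
  exact y.2

/-- conjugation by `g`, `g` in the normaliser of `P`, on `Soc P` -/
noncomputable def conjSoc (hP : ActsAbsolutelyIrreducibly (matrixSet P)) :
    Subgroup.normalizer (P : Set (GL ι F)) →* MulAut (Soc P) :=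
  (socAut hP).comp P.normalizerMonoidHom

theorem conjSoc_mk (hP : ActsAbsolutelyIrreducibly (matrixSet P)) (g : Subgroup.normalizer (P : Set (GL ι F)))
    (x : P) : conjSoc hP g (toSoc P x) = toSoc P ⟨g * x * (g : GL ι F)⁻¹,
      (Subgroup.mem_normalizer_iff.1 g.2 x).1 x.2⟩ := rfl

/-- what acts trivially on `Soc P` is scalar -/
theorem scalar_of_conjSoc (hC : Core P) {g : Subgroup.normalizer (P : Set (GL ι F))}
    (h : conjSoc hC.absIrred g = 1) : (g : GL ι F) ∈ scalars ι F := by
  have h1 : ∀ x ∈ P, (g : GL ι F) * x * (g : GL ι F)⁻¹ * x⁻¹ ∈ scalars ι F := by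
    intro x hx
    have h2 : conjSoc hC.absIrred g (toSoc P ⟨x, hx⟩) = toSoc P ⟨x, hx⟩ := by rw [h]; rfl
    rw [conjSoc_mk] at h2
    obtain ⟨c, hc⟩ := exists_of_toSoc_eq h2
    simp only at hc
    rw [mem_scalars_iff]
    refine ⟨c⁻¹, ?_⟩
    have h4 : (((g : GL ι F) * x * (g : GL ι F)⁻¹ : GL ι F) : Matrix ι ι F) =
        ((c⁻¹ : Fˣ) : F) • (x : Matrix ι ι F) := by
      rw [hc, smul_smul, ← Units.val_mul, inv_mul_cancel, Units.val_one, one_smul]
    rw [Units.val_mul, h4, Matrix.smul_mul, ← Units.val_mul, mul_inv_cancel, Units.val_one]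
  have h2 := H919.commute_of_perfect hC.perfect (H919.scalars_comm (ι := ι) (F := F)) h1
  exact H920.mem_scalars_of_comm' hC.absIrred h2

/-- what induces an inner automorphism -/
theorem mem_of_inner (hC : Core P) {g : Subgroup.normalizer (P : Set (GL ι F))}
    (h : conjSoc hC.absIrred g ∈ Inn (Soc P)) : (g : GL ι F) ∈ P ⊔ scalars ι F := by
  obtain ⟨t, ht⟩ := h
  obtain ⟨x, rfl⟩ := toSoc_surjective P t
  have hx : (x : GL ι F) ∈ Subgroup.normalizer (P : Set (GL ι F)) := Subgroup.le_normalizer x.2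
  have h1 : conjSoc hC.absIrred (⟨x, hx⟩⁻¹ * g) = 1 := by
    rw [map_mul, map_inv]
    have h2 : conjSoc hC.absIrred ⟨x, hx⟩ = MulAut.conj (toSoc P x) := by
      ext s
      obtain ⟨y, rfl⟩ := toSoc_surjective P s
      rw [conjSoc_mk, MulAut.conj_apply, ← map_inv, ← map_mul, ← map_mul]
      rfl
    rw [h2, ← ht, inv_mul_cancel]
  have h3 := scalar_of_conjSoc hC h1
  have h4 : (g : GL ι F) = x * ((x : GL ι F)⁻¹ * g) := by rw [mul_inv_cancel_left]
  rw [h4]
  exact mul_mem (Subgroup.mem_sup_left x.2) (Subgroup.mem_sup_right h3)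

theorem mul_mem_of_out (hC : Core P) (hout : Nat.card (Out (Soc P)) = 2) {g h : GL ι F}
    (hg : ∀ x ∈ P, g * x * g⁻¹ ∈ P) (hh : ∀ x ∈ P, h * x * h⁻¹ ∈ P) (hg' : g ∉ P ⊔ scalars ι F)
    (hh' : h ∉ P ⊔ scalars ι F) : g * h ∈ P ⊔ scalars ι F := by
  let N := Subgroup.normalizer (P : Set (GL ι F))
  let θ : N →* Out (Soc P) := (QuotientGroup.mk' (Inn (Soc P))).comp (conjSoc hC.absIrred)
  have key : ∀ a : N, θ a = 1 → (a : GL ι F) ∈ P ⊔ scalars ι F := by
    intro a ha
    exact mem_of_inner hC ((QuotientGroup.eq_one_iff _).1 ha)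
  have h1 : θ ⟨g, mem_normalizer hg⟩ ≠ 1 := fun h => hg' (key _ h)
  have h2 : θ ⟨h, mem_normalizer hh⟩ ≠ 1 := fun h => hh' (key _ h)
  have h3 : ∀ a b : Out (Soc P), a ≠ 1 → b ≠ 1 → a * b = 1 := by
    intro a b ha hb
    have hc := isCyclic_of_prime_card (p := 2) (hp := ⟨Nat.prime_two⟩) hout
    have h4 : ∀ c : Out (Soc P), c * c = 1 := fun c => by
      have := pow_card_eq_one' (x := c)
      rwa [hout, pow_two] at this
    by_contra hab
    -- three distinct elements
    have hab' : a ≠ b := by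
      rintro rfl
      exact hab (h4 a)
    haveI : Finite (Out (Soc P)) := Nat.finite_of_card_ne_zero (by rw [hout]; norm_num)
    haveI := Fintype.ofFinite (Out (Soc P))
    classical
    have h5 : ({1, a, b} : Finset (Out (Soc P))).card = 3 := by
      rw [Finset.card_insert_of_notMem, Finset.card_insert_of_notMem, Finset.card_singleton]
      · simpa using hab'
      · simp only [Finset.mem_insert, Finset.mem_singleton]
        rintro (h6 | h6)
        · exact ha h6.symm
        · exact hb h6.symm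
    have h6 := Finset.card_le_univ ({1, a, b} : Finset (Out (Soc P)))
    rw [h5, ← Nat.card_eq_fintype_card, hout] at h6
    omega
  have h4 := key (⟨g, mem_normalizer hg⟩ * ⟨h, mem_normalizer hh⟩) (by rw [map_mul]; exact h3 _ _ h1 h2)
  exact h4

end Cfsg.Agent.H920.Sz12
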