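import Cfsg.Agent.H920.Sz12.Form
import Cfsg.Agent.H920.Sz12.OutTwo
import Cfsg.Agent.S1055
import Cfsg.Agent.S1679

/-!
# `2.G₂(4) ≤ 2.Suz` (helper920)

* `LL` : the preimage of `⟨a, …, f⟩`; `P0 = ⁅LL, LL⁆` : perfect (`perfect_P0`), `P0 ⊔ scalars = LL`;
* `soc_P0` : `Soc P0 ≃* chevG2.group K`, `|K| = 4`;
* `norm_P0` : the letter `7` normalises `P0`.
-/

set_option autoImplicit false
set_option Elab.async false

namespace Cfsg.Agent.H920.Sz12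

open Matrix Cfsg Cfsg.Geo Cfsg.Spor
open Cfsg.Agent.SporRec
open scoped commutatorElement
open Cfsg.Agent.H915.LD (Core Soc toSoc toSoc_surjective)

theorem φ_xs (i : Fin 6) : φ (G24Suz.xs i) = gb i.val := by
  have h : φ (G24Suz.xs i) = gm (G24Suz.gen i) := φ_of _
  rw [h]
  fin_cases i <;> rfl

/-- the subgroup `⟨a, …, f⟩` of `Suz` -/
def A0 : Subgroup Suz := Subgroup.closure (Set.range G24Suz.xs)

theorem A0_equiv : ∃ (K : Type) (_ : Field K) (_ : Fintype K), Fintype.card K = 4 ∧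
    Nonempty (A0 ≃* Cfsg.Lie.chevG2.group K) := by
  obtain ⟨K, i1, i2, hK, ⟨e⟩⟩ := Cfsg.Agent.S1679.result
  refine ⟨K, i1, i2, hK, ⟨(MulEquiv.subgroupCongr ?_).trans e⟩⟩
  exact G24Suz.map_closure_eq.symm

/-- its image in the projective group -/
noncomputable def A1 : Subgroup QQ := A0.map φ

theorem A1_eq : A1 = Subgroup.closure (Set.range fun i : Fin 6 => gb i.val) := by
  unfold A1 A0
  rw [MonoidHom.map_closure, ← Set.range_comp]
  congr 1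
  ext y
  constructor
  · rintro ⟨i, rfl⟩
    exact ⟨i, (φ_xs i).symm⟩
  · rintro ⟨i, rfl⟩
    exact ⟨i, φ_xs i⟩

/-- the equivalence -/
noncomputable def A1_equiv : A0 ≃* A1 := A0.equivMapOfInjective φ φ_injective

theorem A1_simple : IsSimpleGroup A1 ∧ ¬ IsMulCommutative A1 := by
  obtain ⟨K, i1, i2, hK, ⟨e⟩⟩ := A0_equiv
  have hK3 : ∃ a : K, a ≠ 0 ∧ a ≠ 1 := by
    classical
    by_contra h
    push Not at h
    have h1 : (Finset.univ : Finset K) ⊆ {0, 1} := by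
      intro a _
      by_cases ha : a = 0
      · simp [ha]
      · simp [h a ha]
    have h2 := Finset.card_le_card h1
    rw [Finset.card_univ, hK] at h2
    have h3 : ({0, 1} : Finset K).card ≤ 2 := Finset.card_le_two
    omega
  obtain ⟨h1, h2⟩ := Cfsg.Agent.S1055.result hK3
  have e' : A1 ≃* Cfsg.Lie.chevG2.group K := A1_equiv.symm.trans e
  refine ⟨?_, fun h => h2 ⟨⟨fun a b => ?_⟩⟩⟩
  · haveI := h1
    haveI : Nontrivial A1 := e'.toEquiv.nontrivial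
    exact IsSimpleGroup.isSimpleGroup_of_surjective e'.symm.toMonoidHom e'.symm.surjective
  · have h3 := h.is_comm.comm (e'.symm a) (e'.symm b)
    apply e'.symm.injective
    rw [map_mul, map_mul]
    exact h3

theorem A1_perfect : ⁅(⊤ : Subgroup A1), (⊤ : Subgroup A1)⁆ = ⊤ := by
  obtain ⟨h1, h2⟩ := A1_simple
  haveI := h1
  rcases (inferInstance : (⁅(⊤ : Subgroup A1), (⊤ : Subgroup A1)⁆).Normal).eq_bot_or_eq_top with h | h
  · exfalso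
    apply h2
    refine ⟨⟨fun a b => ?_⟩⟩
    have h3 : ⁅a, b⁆ ∈ (⊥ : Subgroup A1) := by
      rw [← h]
      exact Subgroup.commutator_mem_commutator (Subgroup.mem_top a) (Subgroup.mem_top b)
    rw [Subgroup.mem_bot, commutatorElement_eq_one_iff_mul_comm] at h3
    exact h3
  · exact h

/-- the preimage of `⟨a, …, f⟩` -/
noncomputable def LL : Subgroup (GL I12 (ZMod 3)) := A1.comap (QuotientGroup.mk' (scalars I12 (ZMod 3)))

theorem mem_LL {x : GL I12 (ZMod 3)} : x ∈ LL ↔ (QuotientGroup.mk x : QQ) ∈ A1 := Iff.rfl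

theorem G_mem_LL {i : ℕ} (hi : i < 6) : G i ∈ LL := by
  rw [mem_LL, A1_eq]
  exact Subgroup.subset_closure ⟨⟨i, hi⟩, rfl⟩

theorem scalars_le_LL : scalars I12 (ZMod 3) ≤ LL := by
  intro x hx
  rw [mem_LL, (QuotientGroup.eq_one_iff x).2 hx]
  exact one_mem _

theorem LL_le_W : LL ≤ W := by
  intro x hx
  obtain ⟨s, -, hs⟩ := mem_LL.1 hx
  exact mem_W.2 ⟨s, hs⟩

/-- `2.G₂(4)` -/
noncomputable def P0 : Subgroup (GL I12 (ZMod 3)) := ⁅LL, LL⁆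

theorem P0_le : P0 ≤ LL := Subgroup.commutator_le_self LL

theorem map_P0 : P0.map (QuotientGroup.mk' (scalars I12 (ZMod 3))) = A1 := by
  have h1 : LL.map (QuotientGroup.mk' (scalars I12 (ZMod 3))) = A1 :=
    Subgroup.map_comap_eq_self_of_surjective (QuotientGroup.mk'_surjective _) A1
  unfold P0
  rw [Subgroup.map_commutator, h1]
  have h2 := congrArg (Subgroup.map A1.subtype) A1_perfect
  rwa [Subgroup.map_commutator, ← MonoidHom.range_eq_map, Subgroup.range_subtype] at h2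

theorem sup_P0 : P0 ⊔ scalars I12 (ZMod 3) = LL := by
  apply le_antisymm (sup_le P0_le scalars_le_LL)
  intro x hx
  have h1 : (QuotientGroup.mk x : QQ) ∈ P0.map (QuotientGroup.mk' (scalars I12 (ZMod 3))) := by
    rw [map_P0]; exact mem_LL.1 hx
  obtain ⟨y, hy, hxy⟩ := h1
  have h2 : y⁻¹ * x ∈ scalars I12 (ZMod 3) := QuotientGroup.eq.1 hxy
  have h3 := mul_mem (Subgroup.mem_sup_left hy) (Subgroup.mem_sup_right (S := P0) h2)
  rwa [mul_inv_cancel_left] at h3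

theorem scalars_comm {z : GL I12 (ZMod 3)} (hz : z ∈ scalars I12 (ZMod 3)) (x : GL I12 (ZMod 3)) : z * x = x * z := by
  obtain ⟨c, rfl⟩ := hz
  apply Units.ext
  show Matrix.scalar I12 (c : ZMod 3) * (x : Matrix I12 I12 (ZMod 3)) = (x : Matrix I12 I12 (ZMod 3)) * Matrix.scalar I12 (c : ZMod 3)
  exact Matrix.scalar_commute _ (fun _ => Commute.all _ _) _

theorem commutator_mul_scalar {a b z w : GL I12 (ZMod 3)} (hz : z ∈ scalars I12 (ZMod 3))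
    (hw : w ∈ scalars I12 (ZMod 3)) : ⁅a * z, b * w⁆ = ⁅a, b⁆ := by
  rw [commutatorElement_def, commutatorElement_def, _root_.mul_inv_rev, _root_.mul_inv_rev]
  have hz' := scalars_comm hz
  have hw' := scalars_comm hw
  calc a * z * (b * w) * (z⁻¹ * a⁻¹) * (w⁻¹ * b⁻¹) = a * (z * (b * w) * z⁻¹) * a⁻¹ * (w⁻¹ * b⁻¹) := by group
    _ = a * b * (w * a⁻¹ * w⁻¹) * b⁻¹ := by rw [hz', mul_inv_cancel_right]; group
    _ = a * b * a⁻¹ * b⁻¹ := by rw [hw', mul_inv_cancel_right]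

theorem perfect_P0 : ⁅P0, P0⁆ = P0 := by
  apply le_antisymm (Subgroup.commutator_le_self P0)
  conv_lhs => unfold P0
  rw [Subgroup.commutator_le]
  intro a ha b hb
  rw [← sup_P0] at ha hb
  rw [Subgroup.mem_sup_of_normal_right] at ha hb
  obtain ⟨a', ha', z, hz, rfl⟩ := ha
  obtain ⟨b', hb', w, hw, rfl⟩ := hb
  rw [commutator_mul_scalar hz hw]
  exact Subgroup.commutator_mem_commutator ha' hb'

/-- `Soc P0` -/
theorem soc_P0 : Nonempty (Soc P0 ≃* A1) := by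
  let ψ : P0 →* A1 := ((QuotientGroup.mk' (scalars I12 (ZMod 3))).comp P0.subtype).codRestrict A1 fun x => by
    rw [← map_P0]
    exact ⟨x, x.2, rfl⟩
  have hψ : Function.Surjective ψ := by
    rintro ⟨y, hy⟩
    rw [← map_P0] at hy
    obtain ⟨x, hx, rfl⟩ := hy
    exact ⟨⟨x, hx⟩, rfl⟩
  have hker : ψ.ker = (scalars I12 (ZMod 3)).subgroupOf P0 := by
    ext x
    rw [MonoidHom.mem_ker, Subgroup.mem_subgroupOf, ← QuotientGroup.eq_one_iff]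
    exact Subtype.ext_iff
  exact ⟨(QuotientGroup.quotientMulEquivOfEq hker.symm).trans (QuotientGroup.quotientKerEquivOfSurjective ψ hψ)⟩

/-- words for the images under the outer automorphism -/
def awL : ℕ → List ℕ
  | 0 =>
    [5, 1, 0, 1, 5, 4, 2, 3, 1, 2, 3, 4, 0, 1, 0, 1, 2, 3, 2, 1, 0, 1, 0, 4, 3, 2, 1, 3, 2, 4,
     1, 0, 1, 5, 0, 1, 0, 1, 0, 5, 1, 0, 1, 4, 2, 3, 1, 2, 3, 4, 0, 1, 0, 1, 2, 3, 2, 1, 0, 1,
     0, 4, 3, 2, 1, 3, 2, 4, 5, 1, 0, 1, 5]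
  | 1 =>
    [5, 1, 0, 1, 5, 4, 2, 3, 1, 2, 3, 4, 0, 1, 0, 1, 2, 3, 2, 1, 0, 1, 0, 4, 3, 2, 1, 3, 2, 4,
     1, 4, 2, 3, 1, 2, 3, 4, 0, 1, 0, 1, 2, 3, 2, 1, 0, 1, 0, 4, 3, 2, 1, 3, 2, 4, 5, 1, 0, 1,
     5]
  | 2 =>
    [5, 1, 0, 1, 5, 4, 2, 3, 1, 2, 3, 4, 0, 1, 0, 1, 2, 3, 2, 1, 0, 1, 0, 4, 3, 2, 1, 3, 2, 4,
     2, 3, 1, 2, 1, 0, 1, 5, 0, 1, 2, 3, 2, 3, 2, 1, 0, 5, 1, 0, 1, 2, 1, 3, 2, 5, 2, 3, 1, 2,
     1, 0, 1, 5, 0, 1, 2, 3, 2, 3, 2, 1, 0, 5, 1, 0, 1, 2, 1, 3, 2, 4, 2, 3, 1, 2, 3, 4, 0, 1,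
     0, 1, 2, 3, 2, 1, 0, 1, 0, 4, 3, 2, 1, 3, 2, 4, 5, 1, 0, 1, 5]
  | 3 =>
    [5, 1, 0, 1, 5, 4, 2, 3, 1, 2, 3, 4, 0, 1, 0, 1, 2, 3, 2, 1, 0, 1, 0, 4, 3, 2, 1, 3, 2, 4,
     3, 4, 2, 3, 1, 2, 3, 4, 0, 1, 0, 1, 2, 3, 2, 1, 0, 1, 0, 4, 3, 2, 1, 3, 2, 4, 5, 1, 0, 1,
     5]
  | 4 =>
    [5, 1, 0, 1, 5, 4, 2, 3, 1, 2, 3, 4, 0, 1, 0, 1, 2, 3, 2, 1, 0, 1, 0, 4, 3, 2, 1, 3, 2, 4,
     4, 4, 2, 3, 1, 2, 3, 4, 0, 1, 0, 1, 2, 3, 2, 1, 0, 1, 0, 4, 3, 2, 1, 3, 2, 4, 5, 1, 0, 1,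
     5]
  | _ =>
    [5, 1, 0, 1, 5, 4, 2, 3, 1, 2, 3, 4, 0, 1, 0, 1, 2, 3, 2, 1, 0, 1, 0, 4, 3, 2, 1, 3, 2, 4,
     5, 4, 2, 3, 1, 2, 3, 4, 0, 1, 0, 1, 2, 3, 2, 1, 0, 1, 0, 4, 3, 2, 1, 3, 2, 4, 5, 1, 0, 1,
     5]

theorem chk_n : ((List.range 6).all fun i => pmB [7, i, 8] (awL i)) = true := by decide +kernel

theorem chk_letters_n : ((List.range 6).all fun i => (awL i).all fun j => decide (j < 6)) = true := by decide

theorem prod_mem_A1 {w : List ℕ} (hw : ∀ j ∈ w, j < 6) : (w.map gb).prod ∈ A1 := by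
  apply Subgroup.list_prod_mem
  intro y hy
  obtain ⟨j, hj, rfl⟩ := List.mem_map.1 hy
  exact mem_LL.1 (G_mem_LL (hw j hj))

theorem G_eight : G 8 = (G 7)⁻¹ := by
  have h : ([7, 8].map G).prod = (([] : List ℕ).map G).prod := word_one (by decide +kernel)
  simp only [List.map_cons, List.map_nil, List.prod_cons, List.prod_nil, mul_one] at h
  exact eq_inv_of_mul_eq_one_right h

theorem norm_LL {x : GL I12 (ZMod 3)} (hx : x ∈ LL) : G 7 * x * (G 7)⁻¹ ∈ LL := by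
  have key : A1.map (MulAut.conj (gb 7)).toMonoidHom ≤ A1 := by
    conv_lhs => rw [A1_eq]
    rw [MonoidHom.map_closure, Subgroup.closure_le]
    rintro _ ⟨_, ⟨i, rfl⟩, rfl⟩
    have h := chk_n
    rw [List.all_eq_true] at h
    have h1 := bar_eq (h i.val (List.mem_range.2 i.isLt))
    have h2 : ([7, i.val, 8].map gb).prod = gb 7 * gb i.val * (gb 7)⁻¹ := by
      simp only [List.map_cons, List.map_nil, List.prod_cons, List.prod_nil, mul_one]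
      rw [show gb 8 = (gb 7)⁻¹ from by unfold gb; rw [G_eight]; rfl, mul_assoc]
    rw [h2] at h1
    show gb 7 * gb i.val * (gb 7)⁻¹ ∈ A1
    rw [h1]
    apply prod_mem_A1
    have h3 := chk_letters_n
    rw [List.all_eq_true] at h3
    have h4 := h3 i.val (List.mem_range.2 i.isLt)
    rw [List.all_eq_true] at h4
    exact fun j hj => by simpa using h4 j hj
  exact key ⟨_, mem_LL.1 hx, rfl⟩

theorem norm_P0 {x : GL I12 (ZMod 3)} (hx : x ∈ P0) : G 7 * x * (G 7)⁻¹ ∈ P0 := by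
  have h1 : LL.map (MulAut.conj (G 7)).toMonoidHom ≤ LL := by
    rintro _ ⟨y, hy, rfl⟩
    exact norm_LL hy
  have h2 : P0.map (MulAut.conj (G 7)).toMonoidHom ≤ P0 := by
    unfold P0
    rw [Subgroup.map_commutator]
    exact Subgroup.commutator_mono h1 h1
  exact h2 ⟨x, hx, rfl⟩

end Cfsg.Agent.H920.Sz12
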