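import Cfsg.Agent.H920.Sz12.Kill
import Cfsg.Agent.H920.Trace
import Cfsg.Agent.H548.Crit
import Cfsg.Agent.H487.SchurMult
import Cfsg.Agent.S1059
import Cfsg.Agent.S2102
import Cfsg.Agent.S2121
import Cfsg.Agent.S3974

/-!
# K4: `2.G₂(4)` is not a core of a maximal subgroup of `Sp₁₂(3)` (helper920)
-/

set_option autoImplicit false
set_option linter.style.haveILetI false

namespace Cfsg.Agent.H920.Sz12

open Matrix Cfsg Cfsg.Geo
open Cfsg.Agent.H915.LD (Core Soc toSoc toSoc_surjective)

universe u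

section cover

variable {ι : Type} [Fintype ι] [DecidableEq ι] {F : Type u} [Field F] [Finite F] {P P' : Subgroup (GL ι F)}

/-- Two cores with the same simple quotient whose scalars make up the whole Schur multiplier are isomorphic. -/
theorem exists_iso (hC : Core P) (hC' : Core P') (e : Soc P ≃* Soc P') {n : ℕ}
    (hA : HasSchurMultiplier (Soc P) (Multiplicative (ZMod n))) (hn : Nat.card ((scalars ι F).subgroupOf P) = n)
    (hn' : Nat.card ((scalars ι F).subgroupOf P') = n) : Nonempty (P ≃* P') := by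
  have hperf : ∀ {R : Subgroup (GL ι F)}, ⁅R, R⁆ = R → commutator R = ⊤ := by
    intro R h
    apply Subgroup.map_injective R.subtype_injective
    rw [commutator_def, Subgroup.map_commutator, ← MonoidHom.range_eq_map, Subgroup.range_subtype, h]
  have hab : Nat.card (Abelianization (Soc P)) = 1 := by
    have h1 : commutator (Soc P) = ⊤ := by
      rw [commutator_def]
      have h2 : (⊤ : Subgroup (Soc P)) = (⊤ : Subgroup P).map (toSoc P) :=
        (Subgroup.map_top_of_surjective _ (toSoc_surjective P)).symm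
      rw [h2, ← Subgroup.map_commutator, ← commutator_def, hperf hC.perfect]
    have h3 : Nat.card (Abelianization (Soc P)) = (commutator (Soc P)).index := rfl
    rw [h3, h1, Subgroup.index_top]
  have hcop : Nat.Coprime (Nat.card (Abelianization (Soc P))) (Nat.card (Multiplicative (ZMod n))) := by
    rw [hab]; exact Nat.coprime_one_left _
  let σ₁ : P →* Soc P := toSoc P
  let σ₂ : P' →* Soc P := e.symm.toMonoidHom.comp (toSoc P')
  have hk₁ : σ₁.ker = (scalars ι F).subgroupOf P := QuotientGroup.ker_mk' _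
  have hk₂ : σ₂.ker = (scalars ι F).subgroupOf P' := by
    have : σ₂.ker = (toSoc P').ker := by
      ext x
      simp only [MonoidHom.mem_ker, σ₂, MonoidHom.comp_apply]
      exact e.symm.map_eq_one_iff
    rw [this]
    exact QuotientGroup.ker_mk' _
  have hs₁ : IsStemExtension σ₁ := by
    refine ⟨toSoc_surjective P, ?_, ?_⟩
    · rw [hk₁, scalars_eq_center hC.absIrred]
    · rw [hperf hC.perfect]; exact le_top
  have hs₂ : IsStemExtension σ₂ := by
    refine ⟨e.symm.surjective.comp (toSoc_surjective P'), ?_, ?_⟩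
    · rw [hk₂, scalars_eq_center hC'.absIrred]
    · rw [hperf hC'.perfect]; exact le_top
  have hcyc : ∀ {R : Subgroup (GL ι F)} {s : Subgroup R}, s = (scalars ι F).subgroupOf R → Core R → Nat.card s = n →
      Nonempty (s ≃* Multiplicative (ZMod n)) := by
    intro R s hs hR hcard
    subst hs
    haveI : Nonempty ι := hR.nonempty
    have hinj : Function.Injective (fun z : (scalars ι F).subgroupOf R =>
        (((z : R) : GL ι F) : Matrix ι ι F) (Classical.arbitrary ι) (Classical.arbitrary ι)) := by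
      intro a b hab
      obtain ⟨c, hc⟩ := Subgroup.mem_subgroupOf.1 a.2
      obtain ⟨d, hd⟩ := Subgroup.mem_subgroupOf.1 b.2
      have h1 : ∀ (c : Fˣ), ((Units.map (Matrix.scalar ι : F →+* Matrix ι ι F).toMonoidHom c : GL ι F) : Matrix ι ι F)
          (Classical.arbitrary ι) (Classical.arbitrary ι) = c := by
        intro c
        show (Matrix.scalar ι (c : F)) _ _ = _
        rw [Matrix.scalar_apply, Matrix.diagonal_apply_eq]
      have h2 : (c : F) = d := by
        rw [← h1 c, ← h1 d]
        have h3 := hab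
        simp only at h3
        rw [← hc, ← hd] at h3
        exact h3
      apply Subtype.ext
      apply Subtype.ext
      rw [← hc, ← hd, Units.ext h2]
    let θ : (scalars ι F).subgroupOf R →* F :=
      { toFun := fun z => (((z : R) : GL ι F) : Matrix ι ι F) (Classical.arbitrary ι) (Classical.arbitrary ι)
        map_one' := by
          show (1 : Matrix ι ι F) _ _ = 1
          rw [Matrix.one_apply_eq]
        map_mul' := by
          intro a b
          obtain ⟨c, hc⟩ := Subgroup.mem_subgroupOf.1 a.2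
          show ((((a : R) : GL ι F) : Matrix ι ι F) * (((b : R) : GL ι F) : Matrix ι ι F)) _ _ = _
          have h1 : (((a : R) : GL ι F) : Matrix ι ι F) = Matrix.scalar ι (c : F) :=
            (congrArg (fun g : GL ι F => (g : Matrix ι ι F)) hc).symm
          rw [h1, Matrix.scalar_apply, Matrix.diagonal_mul, Matrix.diagonal_apply_eq] }
    haveI : IsCyclic ((scalars ι F).subgroupOf R) := isCyclic_of_subgroup_isDomain θ hinj
    exact ⟨(zmodCyclicMulEquiv inferInstance).symm.trans (MulEquiv.refl _) |>.trans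
      (by rw [hcard])⟩
  obtain ⟨ψ, -⟩ := (Cfsg.Agent.S3974.result hA).2 hcop P P' σ₁ σ₂ hs₁ hs₂ 
    (hcyc hk₁ hC (by rw [hk₁]; exact hn)) (hcyc hk₂ hC' (by rw [hk₂]; exact hn'))
  exact ⟨ψ⟩

end cover

variable {F : Type u} [Field F] [Finite F]

/-- **K4.** `hZ`, `hU` : the results on `G₂(4)` in dimension `12`. -/
theorem k4 (hF : Nat.card F = 3) {H P : Subgroup (GL I12 F)} (hH : IsMaximalIn (spGL 6 F) H)
    (hc : IsResidualCore H P) {K : Type} [Field K] [Fintype K] (hK : Fintype.card K = 4)
    (e : Soc P ≃* Cfsg.Lie.chevG2.group K)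
    (hZ : ∀ R : Subgroup (GL I12 F), Core R → ∀ (E : Type) (_ : Field E) (_ : Fintype E), Fintype.card E = 4 →
      (Soc R ≃* Cfsg.Lie.chevG2.group E) → Nat.card ((scalars I12 F).subgroupOf R) = 2)
    (hU : ∀ R R' : Subgroup (GL I12 F), Core R → Core R' → ∀ (E : Type) (_ : Field E) (_ : Fintype E),
      Fintype.card E = 4 → (Soc R ≃* Cfsg.Lie.chevG2.group E) → ∀ (ψ : R ≃* R') (x : R),
        (((ψ x : R') : GL I12 F) : Matrix I12 I12 F).trace = ((x : GL I12 F) : Matrix I12 I12 F).trace) : False := by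
  have hC := H915.LD.core_of_residual hc
  haveI := Fintype.ofFinite F
  haveI hchar : CharP F 3 := by
    obtain ⟨p, hp⟩ := CharP.exists F
    obtain ⟨n, hpp, hn⟩ := FiniteField.card F p
    rw [← Nat.card_eq_fintype_card, hF] at hn
    have h1 : p ∣ 3 := by rw [hn]; exact dvd_pow_self p n.pos.ne'
    rwa [(Nat.prime_dvd_prime_iff_eq hpp Nat.prime_three).1 h1] at hp
  let f : ZMod 3 →+* F := ZMod.castHom (dvd_refl 3) F
  -- the model
  have hC' := core_PF f hF
  obtain ⟨E, j1, j2, hE, ⟨e1⟩⟩ := A0_equiv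
  obtain ⟨e2⟩ := soc_PF f
  have e3 : Soc (PF f) ≃* Cfsg.Lie.chevG2.group E := (e2.trans A1_equiv.symm).trans e1
  have σ : K ≃+* E := FiniteField.ringEquivOfCardEq (by rw [hK, hE])
  have e4 : Cfsg.Lie.chevG2.group K ≃* Cfsg.Lie.chevG2.group E :=
    Cfsg.Agent.H64.ChevField.groupCongr σ Cfsg.Lie.chevG2
  have e5 : Soc P ≃* Soc (PF f) := (e.trans e4).trans e3.symm
  -- the two groups are isomorphic
  have hA : HasSchurMultiplier (Soc P) (Multiplicative (ZMod 2)) :=
    H487.HasSchurMultiplier.congr_left (Cfsg.Agent.S2102.result hK) e.symm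
  obtain ⟨ψ⟩ := exists_iso hC hC' e5 hA (hZ P hC K _ _ hK e) (hZ _ hC' E _ _ hE e3)
  -- and conjugate
  have hadj : Algebra.adjoin F (Set.range fun x : PF f => ((PF f).subtype x : Matrix I12 I12 F)) = ⊤ := by
    have h1 := H919.adjoin_eq_top_of_absIrr hC'.absIrred
    rw [← h1]
    congr 1
    ext M
    constructor
    · rintro ⟨x, rfl⟩
      exact ⟨x, x.2, rfl⟩
    · rintro ⟨x, hx, rfl⟩
      exact ⟨⟨x, hx⟩, rfl⟩
  obtain ⟨J, hJ⟩ := H920.exists_conj_of_trace (PF f).subtype (P.subtype.comp ψ.symm.toMonoidHom) hadj (fun x =>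
    (hU (PF f) P hC' hC E _ _ hE e3 ψ.symm x).symm)
  refine kill_conj f hF hH hc (g := J) ?_ ?_ ?_
  · ext x
    constructor
    · intro hx
      obtain ⟨y, hy⟩ := ψ.symm.surjective ⟨x, hx⟩
      refine ⟨y, y.2, ?_⟩
      have h1 := hJ y
      have h2 : (P.subtype.comp ψ.symm.toMonoidHom) y = x := congrArg Subtype.val hy
      rw [h2] at h1
      exact h1.symm
    · rintro ⟨y, hy, rfl⟩
      have h1 := hJ ⟨y, hy⟩
      have h2 : (P.subtype.comp ψ.symm.toMonoidHom) ⟨y, hy⟩ = J * y * J⁻¹ := h1
      show J * y * J⁻¹ ∈ P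
      rw [← h2]
      exact (ψ.symm ⟨y, hy⟩).2
  · rw [H548.Crit.card_out_congr e]
    haveI : Fact (Nat.Prime 2) := ⟨Nat.prime_two⟩
    haveI : CharP K 2 := by
      obtain ⟨p, hp⟩ := CharP.exists K
      obtain ⟨n, hpp, hn⟩ := FiniteField.card K p
      rw [hK] at hn
      have h1 : p ∣ 2 ^ 2 := by
        have : p ∣ 4 := by rw [hn]; exact dvd_pow_self p n.pos.ne'
        exact this
      rwa [(Nat.prime_dvd_prime_iff_eq hpp Nat.prime_two).1 (hpp.dvd_of_dvd_pow h1)] at hp
    rw [Cfsg.Agent.S2121.result 2 2 (F := K) (by rw [hK]; norm_num) (by norm_num), if_neg (by norm_num)]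
  · rw [Nat.card_congr e.toEquiv, Cfsg.Agent.S1059.result hK]
    norm_num

end Cfsg.Agent.H920.Sz12
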