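import Cfsg.Agent.H920.Sz12.Data
import Cfsg.Agent.S1694

/-!
# `Spor.Suz` in `GL₁₂(3)` modulo scalars (helper920)

* `φ : Spor.Suz →* GL / scalars`, injective, `φ_of`;
* `W` : the preimage (`2.Suz`), `G_mem_W`, `card_W`, `W ≤ spGL 6 (ZMod 3)`.
-/

set_option autoImplicit false
set_option Elab.async false

namespace Cfsg.Agent.H920.Sz12

open Matrix Cfsg Cfsg.Geo Cfsg.Spor

/-- positions of the generators -/
def pos : Suz.Gen → ℕ
  | .a => 0
  | .b => 1
  | .c => 2
  | .d => 3
  | .e => 4
  | .f => 5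
  | .g => 6

/-- all generators -/
def gens : List Suz.Gen := [.a, .b, .c, .d, .e, .f, .g]

theorem mem_gens (x : Suz.Gen) : x ∈ gens := by cases x <;> decide

/-- repeat a word -/
def rep (n : ℕ) (w : List ℕ) : List ℕ := (List.replicate n w).flatten

theorem prod_rep {X : Type*} [Group X] (x : ℕ → X) (n : ℕ) (w : List ℕ) :
    ((rep n w).map x).prod = ((w.map x).prod) ^ n := by
  induction n with
  | zero => simp [rep]
  | succ n ih =>
    have : rep (n + 1) w = w ++ rep n w := by simp [rep, List.replicate_succ]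
    rw [this, List.map_append, List.prod_append, ih, pow_succ']

theorem chk_cox : (gens.all fun x => gens.all fun y =>
    pmB (rep (coxLabel Suz.edges x y) [pos x, pos y]) []) = true := by decide +kernel

theorem chk_x1 : pmB [0] (rep 4 [2, 3]) = true := by decide +kernel
theorem chk_x2 : pmB [0] (rep 2 [5, 6]) = true := by decide +kernel
theorem chk_x3 : pmB (rep 5 [0, 1, 2, 5]) [] = true := by decide +kernel
theorem chk_x4 : pmB (rep 5 [1, 5, 6]) [] = true := by decide +kernel
theorem chk_x5 : pmB (rep 3 (rep 5 [1, 2, 3, 2, 3] ++ [4])) [] = true := by decide +kernel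

/-- the group modulo scalars -/
abbrev QQ : Type := GL I12 (ZMod 3) ⧸ scalars I12 (ZMod 3)

/-- the images of the letters -/
def gb (i : ℕ) : QQ := QuotientGroup.mk (G i)

theorem mk_prod (w : List ℕ) : (QuotientGroup.mk ((w.map G).prod) : QQ) = (w.map gb).prod := by
  induction w with
  | nil => rfl
  | cons i w ih => rw [List.map_cons, List.prod_cons, QuotientGroup.mk_mul, ih]; rfl

theorem neg_one_mem : (-1 : GL I12 (ZMod 3)) ∈ scalars I12 (ZMod 3) :=
  ⟨-1, by
    apply Units.ext
    simp⟩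

theorem bar_eq {w w' : List ℕ} (h : pmB w w' = true) : (w.map gb).prod = (w'.map gb).prod := by
  rw [← mk_prod, ← mk_prod]
  rcases word_pm h with h | h
  · rw [h]
  · rw [h, ← neg_one_mul, QuotientGroup.mk_mul, (QuotientGroup.eq_one_iff _).2 neg_one_mem, one_mul]

/-- the map on generators -/
def gm (x : Suz.Gen) : QQ := gb (pos x)

theorem cox (x y : Suz.Gen) : (gm x * gm y) ^ coxLabel Suz.edges x y = 1 := by
  have h := chk_cox
  rw [List.all_eq_true] at h
  have h1 := h x (mem_gens x)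
  rw [List.all_eq_true] at h1
  have h2 := bar_eq (h1 y (mem_gens y))
  rw [prod_rep] at h2
  simpa [gm] using h2

theorem rel_x1 : FreeGroup.lift gm (Suz.a * ((Suz.c * Suz.d) ^ 4)⁻¹) = 1 := by
  have h := bar_eq chk_x1
  rw [prod_rep] at h
  simp only [List.map_cons, List.map_nil, List.prod_cons, List.prod_nil, mul_one] at h
  rw [map_mul, map_inv, map_pow, map_mul, FreeGroup.lift_apply_of, FreeGroup.lift_apply_of, FreeGroup.lift_apply_of]
  exact mul_inv_eq_one.2 h

theorem rel_x2 : FreeGroup.lift gm (Suz.a * ((Suz.f * Suz.g) ^ 2)⁻¹) = 1 := by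
  have h := bar_eq chk_x2
  rw [prod_rep] at h
  simp only [List.map_cons, List.map_nil, List.prod_cons, List.prod_nil, mul_one] at h
  rw [map_mul, map_inv, map_pow, map_mul, FreeGroup.lift_apply_of, FreeGroup.lift_apply_of, FreeGroup.lift_apply_of]
  exact mul_inv_eq_one.2 h

theorem rel_x3 : FreeGroup.lift gm ((Suz.a * Suz.b * Suz.c * Suz.f) ^ 5) = 1 := by
  have h := bar_eq chk_x3
  rw [prod_rep] at h
  simp only [List.map_cons, List.map_nil, List.prod_cons, List.prod_nil, mul_one] at h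
  rw [map_pow, map_mul, map_mul, map_mul, FreeGroup.lift_apply_of, FreeGroup.lift_apply_of, FreeGroup.lift_apply_of,
    FreeGroup.lift_apply_of]
  simpa [gm, pos, mul_assoc] using h

theorem rel_x4 : FreeGroup.lift gm ((Suz.b * Suz.f * Suz.g) ^ 5) = 1 := by
  have h := bar_eq chk_x4
  rw [prod_rep] at h
  simp only [List.map_cons, List.map_nil, List.prod_cons, List.prod_nil, mul_one] at h
  rw [map_pow, map_mul, map_mul, FreeGroup.lift_apply_of, FreeGroup.lift_apply_of, FreeGroup.lift_apply_of]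
  simpa [gm, pos, mul_assoc] using h

theorem rel_x5 : FreeGroup.lift gm (((Suz.b * Suz.c * Suz.d * Suz.c * Suz.d) ^ 5 * Suz.e) ^ 3) = 1 := by
  have h := bar_eq chk_x5
  rw [prod_rep, List.map_append, List.prod_append, prod_rep] at h
  simp only [List.map_cons, List.map_nil, List.prod_cons, List.prod_nil, mul_one] at h
  rw [map_pow, map_mul, map_pow, map_mul, map_mul, map_mul, map_mul, FreeGroup.lift_apply_of, FreeGroup.lift_apply_of,
    FreeGroup.lift_apply_of, FreeGroup.lift_apply_of]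
  simpa [gm, pos, mul_assoc] using h

theorem rels_hold : ∀ r ∈ (coxRelators Suz.edges ∪ {r | r ∈ Suz.extra} : Set (FreeGroup Suz.Gen)),
    FreeGroup.lift gm r = 1 := by
  rintro r (⟨x, _, y, _, rfl⟩ | hr)
  · rw [map_pow, map_mul, FreeGroup.lift_apply_of, FreeGroup.lift_apply_of]
    exact cox x y
  · change r ∈ Suz.extra at hr
    rw [Suz.extra, List.mem_cons, List.mem_cons, List.mem_cons, List.mem_cons, List.mem_singleton] at hr
    rcases hr with rfl | rfl | rfl | rfl | rfl
    · exact rel_x1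
    · exact rel_x2
    · exact rel_x3
    · exact rel_x4
    · exact rel_x5

/-- The map from `Suz` to the projective group. -/
noncomputable def φ : Suz →* QQ := PresentedGroup.toGroup rels_hold

theorem φ_of (x : Suz.Gen) :
    φ (PresentedGroup.mk (coxRelators Suz.edges ∪ {r | r ∈ Suz.extra}) (FreeGroup.of x)) = gm x :=
  PresentedGroup.toGroup.of rels_hold

/-- a scalar matrix has equal diagonal entries and zero entries elsewhere -/
theorem G_zero_not_mem : G 0 ∉ scalars I12 (ZMod 3) := by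
  rintro ⟨c, hc⟩
  have h := congrArg (fun g : GL I12 (ZMod 3) => (g : Matrix I12 I12 (ZMod 3)) (Sum.inl 0) (Sum.inl 1)) hc
  have h2 : toM aR (Sum.inl 0) (Sum.inl 1) = 1 := by decide +kernel
  have h1 : toM aR (Sum.inl 0) (Sum.inl 1) = 0 := by
    refine Eq.trans h.symm ?_
    show (Matrix.scalar I12 (c : ZMod 3)) (Sum.inl 0) (Sum.inl 1) = 0
    rw [Matrix.scalar_apply, Matrix.diagonal_apply_ne _ (by decide)]
  rw [h2] at h1
  exact absurd h1 (by decide)

theorem φ_injective : Function.Injective φ := by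
  haveI : IsSimpleGroup Suz := Cfsg.Agent.S1694.result.1
  rw [← MonoidHom.ker_eq_bot_iff]
  rcases (inferInstance : φ.ker.Normal).eq_bot_or_eq_top with h | h
  · exact h
  · exfalso
    have h1 : φ (PresentedGroup.mk (coxRelators Suz.edges ∪ {r | r ∈ Suz.extra}) (FreeGroup.of .a)) = 1 := by
      rw [← MonoidHom.mem_ker, h]
      exact Subgroup.mem_top _
    rw [φ_of] at h1
    exact G_zero_not_mem ((QuotientGroup.eq_one_iff _).1 h1)

/-- the group `2.Suz` -/
noncomputable def W : Subgroup (GL I12 (ZMod 3)) := φ.range.comap (QuotientGroup.mk' (scalars I12 (ZMod 3)))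

theorem mem_W {x : GL I12 (ZMod 3)} : x ∈ W ↔ ∃ s, φ s = QuotientGroup.mk x := Iff.rfl

theorem scalars_le_W : scalars I12 (ZMod 3) ≤ W := fun x hx =>
  mem_W.2 ⟨1, by rw [map_one, (QuotientGroup.eq_one_iff x).2 hx]⟩

theorem G_mem_W {i : ℕ} (hi : i < 7) : G i ∈ W := by
  obtain ⟨x, rfl⟩ : ∃ x : Suz.Gen, pos x = i := by
    interval_cases i
    exacts [⟨.a, rfl⟩, ⟨.b, rfl⟩, ⟨.c, rfl⟩, ⟨.d, rfl⟩, ⟨.e, rfl⟩, ⟨.f, rfl⟩, ⟨.g, rfl⟩]
  exact mem_W.2 ⟨_, φ_of x⟩

end Cfsg.Agent.H920.Sz12
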